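import Mathlib.CategoryTheory.EquivalenceRelation
import Mathlib.CategoryTheory.Sites.RegularEpi
import Mathlib.CategoryTheory.Sites.EpiMono
import Mathlib.CategoryTheory.Sites.LocallySurjective
import Mathlib.CategoryTheory.Limits.Types.Pullbacks
import Mathlib.CategoryTheory.Limits.Types.Coequalizers
import Mathlib.CategoryTheory.MorphismProperty.Limits
import Mathlib.CategoryTheory.Sites.Limits

/-! # Exactness of presheaves and sheaves of sets: pullback-stable epis, effective equivalence relations -/

universe w v₁ u₁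

open CategoryTheory Limits Opposite

namespace Groth.Agent.SiteBase

variable {C : Type u₁} [Category.{v₁} C]

/-- base change of a locally surjective morphism of presheaves of sets -/
lemma isLocallySurjective_snd_of_isPullback {P F G H : Cᵒᵖ ⥤ Type w} (J : GrothendieckTopology C)
    {fst : P ⟶ F} {snd : P ⟶ H} {f : F ⟶ G} {g : H ⟶ G} (h : IsPullback fst snd f g)
    [Presheaf.IsLocallySurjective J f] : Presheaf.IsLocallySurjective J snd where
  imageSieve_mem {U} s := by
    refine J.superset_covering ?_ (Presheaf.imageSieve_mem J f (g.app _ s))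
    intro V a ha
    obtain ⟨x, hx⟩ := ha
    obtain ⟨t, -, ht⟩ := Types.exists_of_isPullback (h.map ((evaluation _ _).obj (op V))) x
      (H.map a.op s) (hx.trans (NatTrans.naturality_apply g a.op s).symm)
    exact ⟨t, ht⟩

variable {J : GrothendieckTopology C}

lemma sheaf_isLocallySurjective_snd_of_isPullback {P F G H : Sheaf J (Type w)}
    {fst : P ⟶ F} {snd : P ⟶ H} {f : F ⟶ G} {g : H ⟶ G} (h : IsPullback fst snd f g)
    [Sheaf.IsLocallySurjective f] : Sheaf.IsLocallySurjective snd :=
  isLocallySurjective_snd_of_isPullback (f := f.hom) (g := g.hom) J (h.map (sheafToPresheaf J _))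

lemma sheaf_universally_effectiveEpi [HasSheafify J (Type w)] {X Y : Sheaf J (Type w)}
    (f : X ⟶ Y) [Epi f] :
    (MorphismProperty.universally (fun (A B : Sheaf J (Type w)) (p : A ⟶ B) => EffectiveEpi p)) f := by
  intro X' Y' i₁ i₂ f' h
  have : Sheaf.IsLocallySurjective f := (Sheaf.isLocallySurjective_iff_epi f).mpr inferInstance
  have := sheaf_isLocallySurjective_snd_of_isPullback h.flip
  have : Epi f' := (Sheaf.isLocallySurjective_iff_epi f').mp inferInstance
  have := IsRegularEpiCategory.regularEpiOfEpi f'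
  exact (isRegularEpi_iff_effectiveEpi f').mp inferInstance

lemma presheaf_universally_effectiveEpi {X Y : Cᵒᵖ ⥤ Type w} (f : X ⟶ Y) [Epi f] :
    (MorphismProperty.universally (fun (A B : Cᵒᵖ ⥤ Type w) (p : A ⟶ B) => EffectiveEpi p)) f := by
  intro X' Y' i₁ i₂ f' h
  have : Epi f' := by
    rw [NatTrans.epi_iff_epi_app]
    intro U
    rw [CategoryTheory.epi_iff_surjective]
    intro s
    obtain ⟨x, hx⟩ := (CategoryTheory.epi_iff_surjective (f.app U)).mp
      ((NatTrans.epi_iff_epi_app f).mp inferInstance U) (i₂.app U s)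
    obtain ⟨t, -, ht⟩ := Types.exists_of_isPullback (h.flip.map ((evaluation _ _).obj U)) x s hx
    exact ⟨t, ht⟩
  have := IsRegularEpiCategory.regularEpiOfEpi f'
  exact (isRegularEpi_iff_effectiveEpi f').mp inferInstance

lemma jointlyMono₂_app {R X : Cᵒᵖ ⥤ Type w} {p₁ p₂ : R ⟶ X}
    (e : EquivalenceRelation p₁ p₂) (U : Cᵒᵖ) : JointlyMono₂ (p₁.app U) (p₂.app U) := by
  let m : R ⟶ X ⨯ X := prod.lift p₁ p₂
  have : Mono m := ⟨fun a b h => e.right_cancellation a b
    (by simpa [m, prod.lift_fst] using congrArg (· ≫ prod.fst) h)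
    (by simpa [m, prod.lift_snd] using congrArg (· ≫ prod.snd) h)⟩
  refine ⟨fun W a b h₁ h₂ => ?_⟩
  rw [← cancel_mono (m.app U)]
  apply ((mapIsLimitOfPreservesOfIsLimit ((evaluation _ _).obj U)
    prod.fst prod.snd (prodIsProd X X))).hom_ext
  rintro ⟨_ | _⟩
  · simpa [m, Category.assoc, ← NatTrans.comp_app, prod.lift_fst] using h₁
  · simpa [m, Category.assoc, ← NatTrans.comp_app, prod.lift_snd] using h₂

lemma rel_equivalence {R X : Cᵒᵖ ⥤ Type w} {p₁ p₂ : R ⟶ X}
    (e : EquivalenceRelation p₁ p₂) (U : Cᵒᵖ) :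
    _root_.Equivalence (TypeCat.Rel.ofPair (p₁.app U) (p₂.app U)) := by
  have : JointlyMono₂ (((evaluation _ _).obj U).map p₁) (((evaluation _ _).obj U).map p₂) :=
    jointlyMono₂_app e U
  exact TypeCat.equivalence_of_equivalenceRelation
    { __ := e.toReflexiveRelation.map ((evaluation _ _).obj U)
      __ := e.toSymmetricRelation.map ((evaluation _ _).obj U)
      __ := e.toTransitiveRelation.map ((evaluation _ _).obj U) }

lemma presheaf_effectiveEquivalenceRelation {R X : Cᵒᵖ ⥤ Type w} {p₁ p₂ : R ⟶ X}
    (e : EquivalenceRelation p₁ p₂) : Nonempty (EffectiveEquivalenceRelation p₁ p₂) := by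
  have key : IsKernelPair (coequalizer.π p₁ p₂) p₁ p₂ := by
    refine IsPullback.of_forall_isPullback_app fun U => ?_
    rw [Types.isPullback_iff]
    refine ⟨by rw [← NatTrans.comp_app, ← NatTrans.comp_app, coequalizer.condition], ?_, ?_⟩
    · rintro a b ⟨ha, hb⟩
      exact ConcreteCategory.congr_hom ((jointlyMono₂_app e U).right_cancellation (Y := PUnit) (↾fun _ => a) (↾fun _ => b)
        (by ext; exact ha) (by ext; exact hb)) PUnit.unit
    · intro a b hab
      have hc : IsColimit (Cofork.ofπ ((coequalizer.π p₁ p₂).app U)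
          (by rw [← NatTrans.comp_app, ← NatTrans.comp_app, coequalizer.condition]) :
            Cofork (p₁.app U) (p₂.app U)) :=
        isColimitCoforkMapOfIsColimit ((evaluation _ _).obj U) _ (coequalizerIsCoequalizer p₁ p₂)
      have h2 := congrArg ((hc.coconePointUniqueUpToIso
        (Types.coequalizerColimit (p₁.app U) (p₂.app U)).isColimit).hom) hab
      have h3 : ∀ x, (hc.coconePointUniqueUpToIso
          (Types.coequalizerColimit (p₁.app U) (p₂.app U)).isColimit).hom
            ((coequalizer.π p₁ p₂).app U x) = Function.Coequalizer.mk _ _ x := fun x =>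
        ConcreteCategory.congr_hom (hc.comp_coconePointUniqueUpToIso_hom
          (Types.coequalizerColimit (p₁.app U) (p₂.app U)).isColimit WalkingParallelPair.one) x
      rw [h3, h3] at h2
      exact (rel_equivalence e U).eqvGen_iff.mp (Relation.EqvGen.mono
        (by rintro _ _ ⟨r⟩; exact ⟨r, rfl, rfl⟩) _ _ (Quot.eqvGen_exact h2))
  refine ⟨{ toEquivalenceRelation := e, B := _, π := coequalizer.π p₁ p₂,
            isKernelPair := key, isPushout := ⟨⟨coequalizer.condition p₁ p₂⟩, ⟨?_⟩⟩ }⟩
  refine PushoutCocone.IsColimit.mk _ (fun s => coequalizer.desc s.inl ?_)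
    (fun s => coequalizer.π_desc _ _) (fun s => ?_)
    (fun s m h _ => coequalizer.hom_ext (by simpa using h))
  · have hs : s.inl = s.inr := by
      simpa using congrArg (e.r ≫ ·) s.condition
    rw [s.condition, hs]
  · have hs : s.inl = s.inr := by
      simpa using congrArg (e.r ≫ ·) s.condition
    simpa [← hs] using coequalizer.π_desc _ _

lemma sheaf_effectiveEquivalenceRelation [HasSheafify J (Type w)] {R X : Sheaf J (Type w)}
    {p₁ p₂ : R ⟶ X} (e : EquivalenceRelation p₁ p₂) :
    Nonempty (EffectiveEquivalenceRelation p₁ p₂) := by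
  let adj := sheafificationAdjunction J (Type w)
  let F := sheafToPresheaf J (Type w)
  have : JointlyMono₂ (F.map p₁) (F.map p₂) := ⟨fun W a b h₁ h₂ =>
    (adj.homEquiv W R).symm.injective (e.right_cancellation _ _
      (by rw [← adj.homEquiv_naturality_right_symm, ← adj.homEquiv_naturality_right_symm, h₁])
      (by rw [← adj.homEquiv_naturality_right_symm, ← adj.homEquiv_naturality_right_symm, h₂]))⟩
  obtain ⟨e'⟩ := presheaf_effectiveEquivalenceRelation (p₁ := F.map p₁) (p₂ := F.map p₂)
    { __ := e.toReflexiveRelation.map F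
      __ := e.toSymmetricRelation.map F
      __ := e.toTransitiveRelation.map F }
  let ε : ∀ Y : Sheaf J (Type w), (presheafToSheaf J _).obj (F.obj Y) ≅ Y :=
    fun Y => asIso (adj.counit.app Y)
  refine ⟨{ toEquivalenceRelation := e, B := (presheafToSheaf J _).obj e'.B,
            π := (ε X).inv ≫ (presheafToSheaf J _).map e'.π, isKernelPair := ?_, isPushout := ?_ }⟩
  · exact (e'.isKernelPair.map (presheafToSheaf J _)).of_iso (ε R) (ε X) (ε X) (Iso.refl _)
      (adj.counit.naturality p₁) (adj.counit.naturality p₂) (by simp) (by simp)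
  · exact (e'.isPushout.map (presheafToSheaf J _)).of_iso (ε R) (ε X) (ε X) (Iso.refl _)
      (adj.counit.naturality p₁) (adj.counit.naturality p₂) (by simp) (by simp)

end Groth.Agent.SiteBase
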