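import Mathlib.Algebra.Category.ModuleCat.Sheaf.Colimits
import Mathlib.Algebra.Category.ModuleCat.Sheaf.ChangeOfRings
import Mathlib.Algebra.Category.ModuleCat.Sheaf.Abelian
import Mathlib.Algebra.Category.Grp.FilteredColimits

/-! # The forgetful functor from sheaves of modules to abelian sheaves commutes with colimits -/

universe w' w v u v' u'

open CategoryTheory Limits

namespace Groth.Agent.SiteBase

/-- If `L ⊣ G` is a reflection and `L ⋙ H` preserves colimits, so does `H`. -/
lemma preservesColimitsOfShape_of_reflective {A : Type*} [Category* A] {B : Type*} [Category* B]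
    {E : Type*} [Category* E] {L : A ⥤ B} {G : B ⥤ A} (adj : L ⊣ G) [IsIso adj.counit]
    (H : B ⥤ E) (K : Type*) [Category* K] [HasColimitsOfShape K A]
    [PreservesColimitsOfShape K (L ⋙ H)] : PreservesColimitsOfShape K H := by
  refine ⟨fun {F} => ?_⟩
  have hL := adj.isLeftAdjoint
  let e : (F ⋙ G) ⋙ L ≅ F := Functor.isoWhiskerLeft F (asIso adj.counit) ≪≫ F.rightUnitor
  have : PreservesColimit ((F ⋙ G) ⋙ L) H :=
    preservesColimit_of_preserves_colimit_cocone
      (isColimitOfPreserves L (colimit.isColimit (F ⋙ G)))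
      (isColimitOfPreserves (L ⋙ H) (colimit.isColimit (F ⋙ G)))
  exact preservesColimit_of_iso_diagram H e

variable {C : Type u'} [Category.{v'} C] {J : GrothendieckTopology C} (R : Sheaf J RingCat.{u})
  [HasWeakSheafify J AddCommGrpCat.{v}] [J.WEqualsLocallyBijective AddCommGrpCat.{v}]

lemma toSheaf_preservesColimitsOfShape (K : Type w) [Category.{w'} K]
    [HasColimitsOfShape K (PresheafOfModules.{v} R.obj)]
    [PreservesColimitsOfShape K (PresheafOfModules.toPresheaf.{v} R.obj)] :
    PreservesColimitsOfShape K (SheafOfModules.toSheaf.{v} R) := by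
  have : PreservesColimitsOfShape K (PresheafOfModules.sheafification.{v} (𝟙 R.obj) ⋙
      SheafOfModules.toSheaf.{v} R) :=
    preservesColimitsOfShape_of_natIso (PresheafOfModules.sheafificationCompToSheaf (𝟙 R.obj)).symm
  exact preservesColimitsOfShape_of_reflective
    (PresheafOfModules.sheafificationAdjunction (𝟙 R.obj)) _ K

instance toSheaf_preservesColimitsOfSize
    [HasColimitsOfSize.{w', w} (PresheafOfModules.{v} R.obj)]
    [PreservesColimitsOfSize.{w', w} (PresheafOfModules.toPresheaf.{v} R.obj)] :
    PreservesColimitsOfSize.{w', w} (SheafOfModules.toSheaf.{v} R) :=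
  ⟨fun {K} _ => toSheaf_preservesColimitsOfShape R K⟩

end Groth.Agent.SiteBase
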