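import Groth.Agent.SiteBase.ModFlat
import Groth.Prelude.Def_ModSite2
import Mathlib.CategoryTheory.Adjunction.Additive
import Mathlib.CategoryTheory.Generator.Basic

/-! # Hom and restriction of sheaves of modules -/

universe u

open CategoryTheory MonoidalCategory Limits Opposite

namespace Groth.Agent.SiteBase

variable {C : Type u} [SmallCategory C] {J : GrothendieckTopology C} {O : Sheaf J CommRingCat.{u}}

variable (O) in
/-- Restriction commutes with tensor products. -/
noncomputable def restrTensorIso (U : C) (M N : ModSite.Mod O) :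
    (ModSite.restr O U).obj (((ModSite.tensorBi O).obj M).obj N) ≅
      ((ModSite.tensorBi (O.over U)).obj ((ModSite.restr O U).obj M)).obj ((ModSite.restr O U).obj N) :=
  ((shRestrIso O U).app ((incl O).obj M ⊗ (incl O).obj N)).symm ≪≫
    (sh (O.over U)).mapIso (restrPTensorIso _ _)

/-- Internal hom commutes with restriction. -/
noncomputable def restrSheafHomIso (U : C) (M : ModSite.Mod O) [ModSite.HasSheafHom M]
    [ModSite.HasSheafHom ((ModSite.restr O U).obj M)] :
    ModSite.sheafHom M ⋙ ModSite.restr O U ≅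
      ModSite.restr O U ⋙ ModSite.sheafHom ((ModSite.restr O U).obj M) :=
  ((ModSite.extZeroAdj O U).comp (ModSite.sheafHomAdj M)).rightAdjointUniq
    (((ModSite.sheafHomAdj ((ModSite.restr O U).obj M)).comp (ModSite.extZeroAdj O U)).ofNatIsoLeft
      (extZeroTensorIso M))

/-- Morphisms out of `j_{U!} O_U` are sections over `U`. -/
noncomputable def freeOnEval (U : C) (F : ModSite.Mod O) :
    (ModSite.freeOn O U ⟶ F) →+ F.val.obj (op U) :=
  AddMonoidHom.mk' (fun φ => ((ModSite.extZeroAdj O U).homEquiv _ _ φ).val.app (op (Over.mk (𝟙 U)))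
      (1 : O.obj.obj (op U)))
    (fun a b => by
      haveI := extZero_additive O U
      exact congrArg (fun t => t.val.app (op (Over.mk (𝟙 U))) (1 : O.obj.obj (op U)))
        (((ModSite.extZeroAdj O U).homAddEquiv _ _).map_add a b))

lemma sectionOf_injective {U : C} {F : ModSite.Mod O}
    (s t : ((ModSite.restr O U).obj F).sections)
    (h : s.val (op (Over.mk (𝟙 U))) = t.val (op (Over.mk (𝟙 U)))) : s = t := by
  refine PresheafOfModules.sections_ext _ _ fun V => ?_
  rw [← s.property (Over.homMk V.unop.hom : V.unop ⟶ Over.mk (𝟙 U)).op,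
    ← t.property (Over.homMk V.unop.hom : V.unop ⟶ Over.mk (𝟙 U)).op]
  exact congrArg _ h

theorem freeOnEval_bijective (U : C) (F : ModSite.Mod O) : Function.Bijective (freeOnEval U F) := by
  refine ⟨fun a b h => ((ModSite.extZeroAdj O U).homEquiv _ _).injective
    (((ModSite.restr O U).obj F).unitHomEquiv.injective (sectionOf_injective _ _ h)), fun s => ?_⟩
  refine ⟨freeOnHom F U s, ?_⟩
  show (((ModSite.extZeroAdj O U).homEquiv _ _) (freeOnHom F U s)).val.app (op (Over.mk (𝟙 U)))
    (1 : O.obj.obj (op U)) = s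
  rw [freeOnHom, Equiv.apply_symm_apply]
  have := congrArg (fun t => t.val (op (Over.mk (𝟙 U))))
    (((ModSite.restr O U).obj F).unitHomEquiv.apply_symm_apply (sectionOf F U s))
  exact this.trans (congrFun (congrArg DFunLike.coe (congrArg ModuleCat.Hom.hom (F.val.map_id (op U)))) s)

/-- `Hom(j_{U!} O_U, F) = F(U)`. -/
noncomputable def freeOnEquiv (U : C) (F : ModSite.Mod O) :
    (ModSite.freeOn O U ⟶ F) ≃+ ModSite.sect F U :=
  AddEquiv.ofBijective (freeOnEval U F) (freeOnEval_bijective U F)

/-- `O ⊗ N ≅ N`. -/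
noncomputable def unitTensorIso (N : ModSite.Mod O) :
    ((ModSite.tensorBi O).flip.obj N).obj (ModSite.unit O) ≅ N :=
  (braidIso (ModSite.unit O)).app N ≪≫ (tensorUnitObjIso O).app N

/-- `j_{U!} O_U ⊗ M ≅ j_!(M|U)`. -/
noncomputable def freeOnTensorIso (U : C) (M : ModSite.Mod O) :
    ((ModSite.tensorBi O).flip.obj M).obj (ModSite.freeOn O U) ≅
      (ModSite.extZero O U).obj ((ModSite.restr O U).obj M) :=
  ((extZeroTensorIso M).app (ModSite.unit (O.over U))).symm ≪≫
    (ModSite.extZero O U).mapIso (unitTensorIso _)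

/-- Sections of the internal hom. -/
noncomputable def sectSheafHomEquiv (U : C) (M N : ModSite.Mod O) [ModSite.HasSheafHom M] :
    ModSite.sect ((ModSite.sheafHom M).obj N) U ≃+
      ((ModSite.restr O U).obj M ⟶ (ModSite.restr O U).obj N) :=
  haveI := extZero_additive O U
  (freeOnEquiv U _).symm.trans
    (((ModSite.sheafHomAdj M).homAddEquiv (ModSite.freeOn O U) N).symm.trans
      ((AddEquiv.mk (freeOnTensorIso U M).homFromEquiv
          (fun a b => Preadditive.comp_add _ _ _ (freeOnTensorIso U M).inv a b)).trans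
        ((ModSite.extZeroAdj O U).homAddEquiv _ N)))

/-- The free modules on a topologically generating family separate. -/
theorem isSeparating_freeOn (G : Set C)
    (hG : ∀ X : C, ∃ (ι : Type u) (Y : ι → C) (f : ∀ i, Y i ⟶ X),
      Sieve.ofArrows Y f ∈ J X ∧ ∀ i, Y i ∈ G) :
    (ObjectProperty.ofObj fun X : G => ModSite.freeOn O (X : C)).IsSeparating := by
  intro F H g h e
  refine SheafOfModules.hom_ext (PresheafOfModules.hom_ext fun X => ModuleCat.hom_ext
    (LinearMap.ext fun s => ?_))
  obtain ⟨ι, Y, f, hf, hY⟩ := hG X.unop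
  refine H.isSheaf.isSeparated X.unop _ hf (g.val.app X s) (h.val.app X s) ?_
  rintro W w hw
  rw [Sieve.mem_ofArrows_iff] at hw
  obtain ⟨i, a, rfl⟩ := hw
  show H.val.map (a ≫ f i).op (g.val.app X s) = H.val.map (a ≫ f i).op (h.val.app X s)
  rw [op_comp, PresheafOfModules.map_comp_apply, PresheafOfModules.map_comp_apply]
  refine congrArg _ ?_
  rw [← PresheafOfModules.naturality_apply, ← PresheafOfModules.naturality_apply]
  exact eq_of_freeOnHom g h (Y i) _ (e _ ((ObjectProperty.ofObj_iff _ _).2 ⟨⟨Y i, hY i⟩, rfl⟩) _)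

theorem isLocallyRinged_over (hO : ModSite.IsLocallyRinged J O) (U : C) :
    ModSite.IsLocallyRinged (J.over U) (O.over U) := by
  refine ⟨fun V f => ?_, fun V h => ?_⟩
  · obtain ⟨S, hS, h⟩ := hO.1 V.left f
    refine ⟨_, J.overEquiv_symm_mem_over V S hS, fun W g hg => ?_⟩
    rw [Sieve.overEquiv_symm_iff] at hg
    exact h g.left hg
  · have := J.overEquiv_symm_mem_over V _ (hO.2 V.left h)
    convert this using 1
    ext W g
    rw [Sieve.overEquiv_symm_iff]
    simp

end Groth.Agent.SiteBase
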