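import Groth.Agent.SiteBase.ExtP
import Mathlib.CategoryTheory.Abelian.Exact

/-! # Extension by zero and restriction of sheaves of modules on a localised site -/

universe u

open CategoryTheory MonoidalCategory Limits Opposite

namespace Groth.Agent.SiteBase

lemma isLocallySurjective_whiskerLeft {C D : Type u} [SmallCategory C] [SmallCategory D]
    (J : GrothendieckTopology C) (K : GrothendieckTopology D) (F : C ⥤ D) [F.IsCocontinuous J K]
    {P Q : Dᵒᵖ ⥤ AddCommGrpCat.{u}} (f : P ⟶ Q) [Presheaf.IsLocallySurjective K f] :
    Presheaf.IsLocallySurjective J (Functor.whiskerLeft F.op f) where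
  imageSieve_mem {U} s :=
    J.superset_covering (fun _ _ h => h) (F.cover_lift J K (Presheaf.imageSieve_mem K f s))

lemma isLocallyInjective_whiskerLeft {C D : Type u} [SmallCategory C] [SmallCategory D]
    (J : GrothendieckTopology C) (K : GrothendieckTopology D) (F : C ⥤ D) [F.IsCocontinuous J K]
    {P Q : Dᵒᵖ ⥤ AddCommGrpCat.{u}} (f : P ⟶ Q) [Presheaf.IsLocallyInjective K f] :
    Presheaf.IsLocallyInjective J (Functor.whiskerLeft F.op f) where
  equalizerSieve_mem {U} x y h :=
    J.superset_covering (fun _ _ h => h) (F.cover_lift J K (Presheaf.equalizerSieve_mem K f x y h))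

variable {C : Type u} [SmallCategory C] {J : GrothendieckTopology C} (O : Sheaf J CommRingCat.{u})
  (U : C)

variable {O} in
/-- Sheafification inverts locally bijective morphisms of presheaves of modules. -/
theorem isIso_sh_map {M N : PMod O} (f : M ⟶ N)
    [Presheaf.IsLocallyInjective J ((PresheafOfModules.toPresheaf _).map f)]
    [Presheaf.IsLocallySurjective J ((PresheafOfModules.toPresheaf _).map f)] :
    IsIso ((sh O).map f) := by
  have : IsIso ((presheafToSheaf J AddCommGrpCat.{u}).map ((PresheafOfModules.toPresheaf _).map f)) :=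
    (J.W_iff _).mp ((J.W_iff_isLocallyBijective _).mpr ⟨inferInstance, inferInstance⟩)
  have : IsIso ((SheafOfModules.toSheaf.{u} (ModSite.ringSh O)).map ((sh O).map f)) := this
  exact isIso_of_reflects_iso _ (SheafOfModules.toSheaf.{u} (ModSite.ringSh O))

/-- The comparison `(P|U)^# ⟶ (P^#)|U`. -/
noncomputable def shRestrHom : restrP O U ⋙ sh (O.over U) ⟶ sh O ⋙ ModSite.restr O U where
  app P := ((shAdj (O.over U)).homEquiv _ _).symm ((restrP O U).map ((shAdj O).unit.app P))
  naturality {P Q} f := by
    dsimp
    rw [← Adjunction.homEquiv_naturality_left_symm, ← Adjunction.homEquiv_naturality_right_symm]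
    congr 1
    show (restrP O U).map f ≫ (restrP O U).map ((shAdj O).unit.app Q) =
      (restrP O U).map ((shAdj O).unit.app P) ≫ (restrP O U).map ((incl O).map ((sh O).map f))
    rw [← Functor.map_comp, ← Functor.map_comp]
    congr 1
    exact (shAdj O).unit.naturality f

instance isIso_shRestrHom : IsIso (shRestrHom O U) := by
  refine @NatIso.isIso_of_isIso_app _ _ _ _ _ _ _ (fun P => ?_)
  dsimp [shRestrHom]
  rw [Adjunction.homEquiv_counit]
  haveI : Presheaf.IsLocallyInjective (J.over U)
      ((PresheafOfModules.toPresheaf _).map ((restrP O U).map ((shAdj O).unit.app P))) :=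
    isLocallyInjective_whiskerLeft (J.over U) J (Over.forget U)
      ((PresheafOfModules.toPresheaf _).map ((shAdj O).unit.app P))
  haveI : Presheaf.IsLocallySurjective (J.over U)
      ((PresheafOfModules.toPresheaf _).map ((restrP O U).map ((shAdj O).unit.app P))) :=
    isLocallySurjective_whiskerLeft (J.over U) J (Over.forget U)
      ((PresheafOfModules.toPresheaf _).map ((shAdj O).unit.app P))
  haveI := isIso_sh_map (O := O.over U) ((restrP O U).map ((shAdj O).unit.app P))
  exact IsIso.comp_isIso' this (NatIso.isIso_app_of_isIso (shAdj (O.over U)).counit _)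

/-- Restriction commutes with sheafification. -/
noncomputable def shRestrIso : restrP O U ⋙ sh (O.over U) ≅ sh O ⋙ ModSite.restr O U :=
  asIso (shRestrHom O U)

/-- `j_!` is the sheafified presheaf extension by zero. -/
noncomputable def extZeroIso :
    ModSite.extZero O U ≅ incl (O.over U) ⋙ extP O U ⋙ sh O :=
  (ModSite.extZeroAdj O U).leftAdjointUniq
    (((extPAdj O U).comp (shAdj O)).restrictFullyFaithful
      (SheafOfModules.fullyFaithfulForget _) (Functor.FullyFaithful.id _)
      (Iso.refl _ : incl (O.over U) ⋙ extP O U ⋙ sh O ≅ (incl (O.over U) ⋙ extP O U ⋙ sh O) ⋙ 𝟭 _)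
      (Iso.refl _ : (𝟭 _) ⋙ incl O ⋙ restrP O U ≅ ModSite.restr O U ⋙ incl (O.over U)))

instance extP_preservesMonomorphisms : (extP O U).PreservesMonomorphisms where
  preserves {G G'} φ _ := by
    classical
    apply PresheafOfModules.mono_of_injective
    intro X
    have hinj : ∀ a : X.unop ⟶ U, Function.Injective (φ.app (op (Over.mk a))).hom := fun a =>
      PresheafOfModules.injective_of_mono φ (op (Over.mk a))
    let φa : ∀ a : X.unop ⟶ U, extComp G X a →ₗ[O.obj.obj X] extComp G' X a :=
      fun a => (φ.app (op (Over.mk a))).hom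
    show Function.Injective (DirectSum.lmap φa)
    exact (DirectSum.lmap_injective φa).mpr hinj

instance sh_preservesFiniteLimits : PreservesFiniteLimits (sh O) :=
  inferInstanceAs (PreservesFiniteLimits (PresheafOfModules.sheafification.{u} (𝟙 (ModSite.ringSh O).obj)))

instance incl_preservesLimits : PreservesLimitsOfSize.{u, u} (incl O) :=
  (shAdj O).rightAdjoint_preservesLimits

instance incl_preservesMonomorphisms : (incl O).PreservesMonomorphisms :=
  Functor.preservesMonomorphisms_of_adjunction (shAdj O)

instance sh_preservesMonomorphisms : (sh O).PreservesMonomorphisms :=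
  preservesMonomorphisms_of_preservesLimitsOfShape _

instance extZero_preservesMonomorphisms : (ModSite.extZero O U).PreservesMonomorphisms :=
  Functor.PreservesMonomorphisms.of_iso (extZeroIso O U).symm

instance extZero_additive : (ModSite.extZero O U).Additive :=
  haveI := (ModSite.extZeroAdj O U).leftAdjoint_preservesColimits
  haveI := preservesBinaryBiproducts_of_preservesBinaryCoproducts (ModSite.extZero O U)
  Functor.additive_of_preservesBinaryBiproducts _

/-- A right exact additive functor between abelian categories that preserves monos is left exact. -/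
lemma preservesFiniteLimits_of_preservesMono {A B : Type*} [Category* A] [Category* B] [Abelian A]
    [Abelian B] (F : A ⥤ B) [hF : PreservesFiniteColimits F] [F.PreservesMonomorphisms] :
    PreservesFiniteLimits F := by
  have := preservesBinaryBiproducts_of_preservesBinaryCoproducts F
  have : F.Additive := Functor.additive_of_preservesBinaryBiproducts F
  have h : ∀ S : ShortComplex A, S.ShortExact → (S.map F).Exact ∧ Epi (F.map S.g) :=
    ((Functor.preservesFiniteColimits_tfae F).out 3 0).mp hF
  refine ((Functor.preservesFiniteLimits_tfae F).out 0 3).mp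
    (show ∀ S : ShortComplex A, S.ShortExact → (S.map F).Exact ∧ Mono (F.map S.f) from
      fun S hS => ⟨(h S hS).1, ?_⟩)
  haveI := hS.mono_f
  exact F.map_mono _

theorem extZero_preservesFiniteLimits : PreservesFiniteLimits (ModSite.extZero O U) := by
  haveI := (ModSite.extZeroAdj O U).leftAdjoint_preservesColimits
  exact preservesFiniteLimits_of_preservesMono _

instance incl_full : (incl O).Full := (SheafOfModules.fullyFaithfulForget (ModSite.ringSh O)).full

instance incl_faithful : (incl O).Faithful := (SheafOfModules.fullyFaithfulForget (ModSite.ringSh O)).faithful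

theorem extZero_faithful : (ModSite.extZero O U).Faithful := by
  classical
  suffices (incl (O.over U) ⋙ extP O U ⋙ sh O).Faithful from Functor.Faithful.of_iso (extZeroIso O U).symm
  refine ⟨fun {G G'} a b h => (incl (O.over U)).map_injective ?_⟩
  refine PresheafOfModules.hom_ext fun V => ModuleCat.hom_ext (LinearMap.ext fun m => ?_)
  let a' := (incl (O.over U)).map a
  let b' := (incl (O.over U)).map b
  have hunit : (extP O U).map a' ≫ (shAdj O).unit.app _ = (extP O U).map b' ≫ (shAdj O).unit.app _ := by
    refine ((shAdj O).unit.naturality _).trans (Eq.trans ?_ ((shAdj O).unit.naturality _).symm)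
    exact congrArg (fun t => (shAdj O).unit.app _ ≫ (incl O).map t) h
  have h' := ConcreteCategory.congr_hom
    (congrArg (fun t => PresheafOfModules.Hom.app t (op V.unop.left)) hunit) (extIn _ V m)
  have hT := Presheaf.equalizerSieve_mem J
    ((PresheafOfModules.toPresheaf _).map ((shAdj O).unit.app ((extP O U).obj ((incl (O.over U)).obj G'))))
    (X := op V.unop.left) (((extP O U).map a').app (op V.unop.left) (extIn _ V m))
    (((extP O U).map b').app (op V.unop.left) (extIn _ V m)) h'
  refine G'.isSheaf.isSeparated V.unop _
    (J.overEquiv_symm_mem_over V.unop _ hT) (a'.app V m) (b'.app V m) fun W q hq => ?_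
  rw [Sieve.overEquiv_symm_iff] at hq
  have ea : ((extP O U).map a').app (op V.unop.left) (extIn _ V m) = extIn _ V (a'.app V m) :=
    DirectSum.lmap_of _ _ _
  have eb : ((extP O U).map b').app (op V.unop.left) (extIn _ V m) = extIn _ V (b'.app V m) :=
    DirectSum.lmap_of _ _ _
  rw [ea, eb] at hq
  have hq' : extMap ((incl (O.over U)).obj G') q.left.op
      (DirectSum.of (extComp ((incl (O.over U)).obj G') (op V.unop.left)) V.unop.hom (a'.app V m)) =
    extMap ((incl (O.over U)).obj G') q.left.op
      (DirectSum.of (extComp ((incl (O.over U)).obj G') (op V.unop.left)) V.unop.hom (b'.app V m)) := hq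
  rw [extMap_of, extMap_of] at hq'
  have h2 := DirectSum.of_injective _ hq'
  let i : W ⟶ Over.mk (q.left ≫ V.unop.hom) :=
    Over.homMk (𝟙 W.left) ((Category.id_comp _).trans (Over.w q))
  let r : Over.mk (q.left ≫ V.unop.hom) ⟶ V.unop := Over.homMk q.left
  have hqr : q = i ≫ r := Over.OverMorphism.ext (Category.id_comp _).symm
  show ((incl (O.over U)).obj G').map q.op _ = ((incl (O.over U)).obj G').map q.op _
  rw [hqr, op_comp, PresheafOfModules.map_comp_apply, PresheafOfModules.map_comp_apply]
  exact congrArg (((incl (O.over U)).obj G').map i.op) h2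

theorem mono_extZeroAdj_unit (G : ModSite.Mod (O.over U)) :
    Mono ((ModSite.extZeroAdj O U).unit.app G) := by
  haveI := extZero_faithful O U
  refine ⟨fun {Z} a b hab => (ModSite.extZero O U).map_injective ?_⟩
  have := congrArg (fun t => (ModSite.extZero O U).map t ≫ (ModSite.extZeroAdj O U).counit.app _) hab
  simpa using this

variable {O U}

/-- Restriction of presheaves of modules is monoidal. -/
noncomputable def restrPTensorIso (A B : PMod O) :
    (restrP O U).obj (A ⊗ B) ≅ (restrP O U).obj A ⊗ (restrP O U).obj B :=
  (Functor.Monoidal.μIso (PresheafOfModules.pushforward₀OfCommRingCat (Over.forget U) O.obj) A B).symm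

open scoped Classical TensorProduct in
/-- components of the projection formula on presheaves -/
noncomputable def projApp (G : PMod (O.over U)) (M : PMod O) (X : Cᵒᵖ) :
    (DirectSum (X.unop ⟶ U) (extComp G X)) ⊗[O.obj.obj X] (M.obj X) ≃ₗ[O.obj.obj X]
      DirectSum (X.unop ⟶ U) (fun a => extComp G X a ⊗[O.obj.obj X] M.obj X) :=
  TensorProduct.directSumLeft (O.obj.obj X) (O.obj.obj X) (extComp G X) (M.obj X)

open scoped Classical TensorProduct in
/-- Projection formula on presheaves: `j_! G ⊗ M ≅ j_!(G ⊗ M|U)`. -/
noncomputable def projIso (G : PMod (O.over U)) (M : PMod O) :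
    (extP O U).obj G ⊗ M ≅ (extP O U).obj (G ⊗ (restrP O U).obj M) :=
  PresheafOfModules.isoMk (fun X => (projApp G M X).toModuleIso)
    (fun {X Y} g => ModuleCat.MonoidalCategory.tensor_ext fun x m => by
      induction x using DirectSum.induction_on with
      | zero => erw [TensorProduct.zero_tmul, map_zero]
      | add x y hx hy => erw [TensorProduct.add_tmul, map_add, map_add, hx, hy]
      | of a t =>
        show projApp G M Y (extMap G g (DirectSum.of (extComp G X) a t) ⊗ₜ[O.obj.obj Y] M.map g m) =
          extMap (G ⊗ (restrP O U).obj M) g (projApp G M X (DirectSum.of (extComp G X) a t ⊗ₜ[O.obj.obj X] m))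
        rw [extMap_of]
        erw [TensorProduct.directSumLeft_tmul_lof, TensorProduct.directSumLeft_tmul_lof]
        exact (extMap_of (G ⊗ (restrP O U).obj M) g a (t ⊗ₜ[O.obj.obj X] m)).symm)

end Groth.Agent.SiteBase
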