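import Mathlib.Algebra.Category.ModuleCat.Presheaf.Generator
import Mathlib.Algebra.Category.ModuleCat.Presheaf.Sheafification
import Mathlib.Algebra.Category.ModuleCat.Sheaf.Abelian
import Mathlib.Algebra.Category.ModuleCat.Sheaf.Colimits
import Mathlib.Algebra.Category.Grp.AB
import Mathlib.Algebra.Category.Grp.FilteredColimits
import Mathlib.CategoryTheory.Abelian.GrothendieckAxioms.FunctorCategory
import Mathlib.CategoryTheory.Abelian.GrothendieckCategory.EnoughInjectives

/-! # `PresheafOfModules R` and `SheafOfModules R` are Grothendieck abelian -/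

universe u

open CategoryTheory Limits

namespace Groth.Agent.SiteBase

variable {C : Type u} [SmallCategory C]

instance presheafOfModules_hasExactColimitsOfShape (R : Cᵒᵖ ⥤ RingCat.{u}) (K : Type u)
    [SmallCategory K] [IsFiltered K] :
    HasExactColimitsOfShape K (PresheafOfModules.{u} R) :=
  have : ReflectsFiniteLimits (PresheafOfModules.toPresheaf.{u} R) :=
    ⟨fun _ _ _ => reflectsLimitsOfShape_of_reflectsIsomorphisms⟩
  HasExactColimitsOfShape.domain_of_functor K (PresheafOfModules.toPresheaf.{u} R)

instance presheafOfModules_hasSeparator (R : Cᵒᵖ ⥤ RingCat.{u}) :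
    HasSeparator (PresheafOfModules.{u} R) :=
  ⟨_, ObjectProperty.IsSeparating.isSeparator_coproduct (f := (yoneda ⋙ PresheafOfModules.free R).obj)
    (PresheafOfModules.freeYoneda.isSeparating R)⟩

instance presheafOfModules_isGrothendieckAbelian (R : Cᵒᵖ ⥤ RingCat.{u}) :
    IsGrothendieckAbelian.{u} (PresheafOfModules.{u} R) where
  ab5OfSize := ⟨fun _ _ _ => inferInstance⟩

variable {J : GrothendieckTopology C}

instance sheafOfModules_hasExactColimitsOfShape (R : Sheaf J RingCat.{u}) (K : Type u)
    [SmallCategory K] [IsFiltered K] :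
    HasExactColimitsOfShape K (SheafOfModules.{u} R) :=
  have : (SheafOfModules.forget.{u} R ⋙ PresheafOfModules.restrictScalars (𝟙 R.obj)).Full :=
    inferInstance
  (PresheafOfModules.sheafificationAdjunction.{u} (𝟙 R.obj)).hasExactColimitsOfShape K

instance sheafOfModules_hasSeparator (R : Sheaf J RingCat.{u}) :
    HasSeparator (SheafOfModules.{u} R) := by
  let adj := PresheafOfModules.sheafificationAdjunction.{u} (𝟙 R.obj)
  obtain ⟨G, hG⟩ := HasSeparator.hasSeparator (C := PresheafOfModules.{u} R.obj)
  refine ⟨(PresheafOfModules.sheafification (𝟙 R.obj)).obj G, ?_⟩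
  rw [isSeparator_def]
  intro X Y f g h
  apply (SheafOfModules.forget.{u} R ⋙ PresheafOfModules.restrictScalars (𝟙 R.obj)).map_injective
  refine hG.def _ _ fun k => ?_
  have := h ((adj.homEquiv G X).symm k)
  have h2 := congrArg (adj.homEquiv G Y) this
  rwa [adj.homEquiv_naturality_right, adj.homEquiv_naturality_right,
    Equiv.apply_symm_apply] at h2

instance sheafOfModules_isGrothendieckAbelian (R : Sheaf J RingCat.{u}) :
    IsGrothendieckAbelian.{u} (SheafOfModules.{u} R) where
  ab5OfSize := ⟨fun _ _ _ => inferInstance⟩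

end Groth.Agent.SiteBase
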