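import Groth.Agent.SiteBase.ExtZero
import Mathlib.CategoryTheory.Abelian.GrothendieckAxioms.Basic
import Mathlib.CategoryTheory.Limits.FunctorCategory.Basic

/-! # Flat sheaves of modules on a ringed site -/

universe u

open CategoryTheory MonoidalCategory Limits Opposite

namespace Groth.Agent.SiteBase

variable {C : Type u} [SmallCategory C] {J : GrothendieckTopology C} {O : Sheaf J CommRingCat.{u}}

instance tensorBi_flip_preservesFiniteColimits (F : ModSite.Mod O) :
    PreservesFiniteColimits ((ModSite.tensorBi O).flip.obj F) :=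
  PreservesColimitsOfSize.preservesFiniteColimits _

instance tensorBi_flip_additive (F : ModSite.Mod O) : ((ModSite.tensorBi O).flip.obj F).Additive :=
  haveI := preservesBinaryBiproducts_of_preservesBinaryCoproducts ((ModSite.tensorBi O).flip.obj F)
  Functor.additive_of_preservesBinaryBiproducts _

theorem isFlat_iff {F : ModSite.Mod O} :
    ModSite.IsFlat F ↔ ((ModSite.tensorBi O).flip.obj F).PreservesMonomorphisms := by
  refine ⟨fun h => ?_, fun h => ⟨preservesFiniteLimits_of_preservesMono _, inferInstance⟩⟩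
  haveI := h.1
  exact preservesMonomorphisms_of_preservesLimitsOfShape _

theorem preservesMono_of_isFlat {F : ModSite.Mod O} (h : ModSite.IsFlat F) :
    ((ModSite.tensorBi O).flip.obj F).PreservesMonomorphisms := isFlat_iff.1 h

theorem isFlat_of_natIso {F : ModSite.Mod O} {T : ModSite.Mod O ⥤ ModSite.Mod O}
    (e : (ModSite.tensorBi O).flip.obj F ≅ T) [T.PreservesMonomorphisms] : ModSite.IsFlat F :=
  isFlat_iff.2 (Functor.PreservesMonomorphisms.of_iso e.symm)

theorem isFlat_of_iso {F F' : ModSite.Mod O} (e : F ≅ F') (h : ModSite.IsFlat F) :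
    ModSite.IsFlat F' :=
  haveI := preservesMono_of_isFlat h
  isFlat_of_natIso ((ModSite.tensorBi O).flip.mapIso e.symm)

/-- `G ⊗ - ≅ - ⊗ G`. -/
noncomputable def braidIso (G : ModSite.Mod O) :
    (ModSite.tensorBi O).obj G ≅ (ModSite.tensorBi O).flip.obj G :=
  Functor.isoWhiskerLeft (incl O)
    (Functor.isoWhiskerRight (BraidedCategory.tensorLeftIsoTensorRight ((incl O).obj G)) (sh O))

instance tensorBi_obj_preservesColimitsOfSize (G : ModSite.Mod O) :
    PreservesColimitsOfSize.{u, u} ((ModSite.tensorBi O).obj G) :=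
  preservesColimits_of_natIso (braidIso G).symm

instance tensorBi_obj_preservesFiniteColimits (G : ModSite.Mod O) :
    PreservesFiniteColimits ((ModSite.tensorBi O).obj G) :=
  PreservesColimitsOfSize.preservesFiniteColimits _

instance tensorBi_obj_additive (G : ModSite.Mod O) : ((ModSite.tensorBi O).obj G).Additive :=
  Functor.additive_of_iso (braidIso G).symm

theorem mono_tensor_map_of_isFlat {X : ModSite.Mod O} (h : ModSite.IsFlat X)
    {K P : ModSite.Mod O} (φ : K ⟶ P) [Mono φ] : Mono (((ModSite.tensorBi O).map φ).app X) :=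
  (preservesMono_of_isFlat h).preserves φ

theorem mono_map_of_isFlat {P : ModSite.Mod O} (h : ModSite.IsFlat P)
    {A B : ModSite.Mod O} (f : A ⟶ B) [Mono f] : Mono (((ModSite.tensorBi O).obj P).map f) :=
  haveI := preservesMono_of_isFlat h
  haveI : ((ModSite.tensorBi O).obj P).PreservesMonomorphisms :=
    Functor.PreservesMonomorphisms.of_iso (braidIso P).symm
  Functor.map_mono _ f

/-- sheafifying a factor before tensoring with it does not matter. -/
noncomputable def tensorUnitIso (P : PMod O) :
    tensorRight P ⋙ sh O ≅ tensorRight ((incl O).obj ((sh O).obj P)) ⋙ sh O :=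
  NatIso.ofComponents
    (fun H => @asIso _ _ _ _ ((sh O).map (H ◁ (shAdj O).unit.app P)) (isIso_sh_map_whiskerLeft _ H))
    (fun {H H'} f => by
      show (sh O).map (f ▷ P) ≫ (sh O).map (H' ◁ _) = (sh O).map (H ◁ _) ≫ (sh O).map (f ▷ _)
      rw [← Functor.map_comp, ← Functor.map_comp]
      congr 1
      exact (whisker_exchange _ _).symm)

/-- Associativity: `- ⊗ (G ⊗ F) ≅ (- ⊗ G) ⊗ F`. -/
noncomputable def assocIso (G F : ModSite.Mod O) :
    (ModSite.tensorBi O).flip.obj (((ModSite.tensorBi O).obj G).obj F) ≅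
      (ModSite.tensorBi O).flip.obj G ⋙ (ModSite.tensorBi O).flip.obj F :=
  Functor.isoWhiskerLeft (incl O)
    ((tensorUnitIso ((incl O).obj G ⊗ (incl O).obj F)).symm ≪≫
      Functor.isoWhiskerRight (tensorRightTensor ((incl O).obj G) ((incl O).obj F)) (sh O) ≪≫
      Functor.associator _ _ _ ≪≫
      Functor.isoWhiskerLeft (tensorRight ((incl O).obj G)) (tensorDescIso O ((incl O).obj F)))

theorem isFlat_tensor {G F : ModSite.Mod O} (hG : ModSite.IsFlat G) (hF : ModSite.IsFlat F) :
    ModSite.IsFlat (((ModSite.tensorBi O).obj G).obj F) := by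
  haveI := preservesMono_of_isFlat hG
  haveI := preservesMono_of_isFlat hF
  exact isFlat_of_natIso (assocIso G F)

instance tensorBi_flip_preservesColimitsOfShape (K : Type u) [SmallCategory K] :
    PreservesColimitsOfShape K (ModSite.tensorBi O).flip :=
  preservesColimitsOfShape_of_evaluation _ _ fun G =>
    inferInstanceAs (PreservesColimitsOfShape K ((ModSite.tensorBi O).obj G))

/-- An exact colimit of flat modules is flat. -/
theorem isFlat_colimit {K : Type u} [SmallCategory K] [HasColimitsOfShape K (ModSite.Mod O)]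
    [HasExactColimitsOfShape K (ModSite.Mod O)] (D : K ⥤ ModSite.Mod O)
    (hD : ∀ k, ModSite.IsFlat (D.obj k)) {c : Cocone D} (hc : IsColimit c) :
    ModSite.IsFlat c.pt := by
  let Φ := D ⋙ (ModSite.tensorBi O).flip
  haveI : PreservesFiniteLimits Φ.flip := by
    refine ⟨fun L _ _ => preservesLimitsOfShape_of_evaluation _ _ fun k => ?_⟩
    haveI := (hD k).1
    exact inferInstanceAs (PreservesLimitsOfShape L ((ModSite.tensorBi O).flip.obj (D.obj k)))
  haveI : PreservesFiniteLimits (colim : (K ⥤ ModSite.Mod O) ⥤ ModSite.Mod O) :=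
    HasExactColimitsOfShape.preservesFiniteLimits
  haveI : PreservesFiniteLimits (Φ.flip ⋙ colim) := comp_preservesFiniteLimits _ _
  haveI : (Φ.flip ⋙ colim).PreservesMonomorphisms :=
    preservesMonomorphisms_of_preservesLimitsOfShape _
  exact isFlat_of_natIso ((isColimitOfPreserves (ModSite.tensorBi O).flip hc).coconePointUniqueUpToIso
    (colimit.isColimit Φ) ≪≫ colimitIsoFlipCompColim Φ)

instance mod_ab4 : AB4OfSize.{u} (ModSite.Mod O) :=
  haveI : HasFiniteBiproducts (ModSite.Mod O) := Abelian.hasFiniteBiproducts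
  AB4.of_AB5 _

theorem isFlat_coproduct {ι : Type u} (F : ι → ModSite.Mod O) (hF : ∀ i, ModSite.IsFlat (F i))
    (c : Cofan F) (hc : IsColimit c) : ModSite.IsFlat c.pt :=
  isFlat_colimit (Discrete.functor F) (fun k => hF k.as) hc

variable (O) in
/-- `- ⊗ O ≅ id`. -/
noncomputable def tensorUnitObjIso : (ModSite.tensorBi O).flip.obj (ModSite.unit O) ≅ 𝟭 _ :=
  Functor.isoWhiskerLeft (incl O)
      (Functor.isoWhiskerRight (rightUnitorNatIso (PMod O)) (sh O) ≪≫ Functor.leftUnitor _) ≪≫
    asIso (shAdj O).counit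

theorem isFlat_unit : ModSite.IsFlat (ModSite.unit O) :=
  isFlat_of_natIso (tensorUnitObjIso O)

section Proj

variable (U : C)

variable (O) in
/-- `j_!` absorbs sheafification. -/
noncomputable def shExtIso : sh (O.over U) ⋙ ModSite.extZero O U ≅ extP O U ⋙ sh O :=
  ((shAdj (O.over U)).comp (ModSite.extZeroAdj O U)).leftAdjointUniq
    ((((extPAdj O U).comp (shAdj O)).ofNatIsoRight
      (Iso.refl _ : incl O ⋙ restrP O U ≅ ModSite.restr O U ⋙ incl (O.over U))))

variable {U}

lemma projIso_natural_right (G : PMod (O.over U)) {M M' : PMod O} (f : M ⟶ M') :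
    ((extP O U).obj G ◁ f) ≫ (projIso G M').hom =
      (projIso G M).hom ≫ (extP O U).map (G ◁ (restrP O U).map f) := by
  classical
  refine PresheafOfModules.hom_ext fun X => ModuleCat.MonoidalCategory.tensor_ext fun x m => ?_
  change DirectSum (X.unop ⟶ U) (extComp G X) at x
  induction x using DirectSum.induction_on with
  | zero => erw [TensorProduct.zero_tmul, map_zero]
  | add x y hx hy => erw [TensorProduct.add_tmul, map_add, map_add, hx, hy]
  | of a t =>
    show projApp G M' X (DirectSum.of (extComp G X) a t ⊗ₜ[O.obj.obj X] f.app X m) =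
      ((extP O U).map (G ◁ (restrP O U).map f)).app X
        (projApp G M X (DirectSum.of (extComp G X) a t ⊗ₜ[O.obj.obj X] m))
    erw [TensorProduct.directSumLeft_tmul_lof, TensorProduct.directSumLeft_tmul_lof]
    let φa : ∀ a : X.unop ⟶ U, extComp (G ⊗ (restrP O U).obj M) X a →ₗ[O.obj.obj X]
        extComp (G ⊗ (restrP O U).obj M') X a := fun a => ((G ◁ (restrP O U).map f).app (op (Over.mk a))).hom
    exact (DirectSum.lmap_of φa a (t ⊗ₜ[O.obj.obj X] m)).symm

lemma projIso_natural_left {G G' : PMod (O.over U)} (g : G ⟶ G') (M : PMod O) :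
    ((extP O U).map g ▷ M) ≫ (projIso G' M).hom =
      (projIso G M).hom ≫ (extP O U).map (g ▷ (restrP O U).obj M) := by
  classical
  refine PresheafOfModules.hom_ext fun X => ModuleCat.MonoidalCategory.tensor_ext fun x m => ?_
  change DirectSum (X.unop ⟶ U) (extComp G X) at x
  induction x using DirectSum.induction_on with
  | zero => erw [TensorProduct.zero_tmul, map_zero]
  | add x y hx hy => erw [TensorProduct.add_tmul, map_add, map_add, hx, hy]
  | of a t =>
    show projApp G' M X (((extP O U).map g).app X (DirectSum.of (extComp G X) a t) ⊗ₜ[O.obj.obj X] m) =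
      ((extP O U).map (g ▷ (restrP O U).obj M)).app X
        (projApp G M X (DirectSum.of (extComp G X) a t ⊗ₜ[O.obj.obj X] m))
    erw [DirectSum.lmap_of, TensorProduct.directSumLeft_tmul_lof, TensorProduct.directSumLeft_tmul_lof]
    let φa : ∀ a : X.unop ⟶ U, extComp (G ⊗ (restrP O U).obj M) X a →ₗ[O.obj.obj X]
        extComp (G' ⊗ (restrP O U).obj M) X a := fun a => ((g ▷ (restrP O U).obj M).app (op (Over.mk a))).hom
    exact (DirectSum.lmap_of φa a (t ⊗ₜ[O.obj.obj X] m)).symm

/-- projection formula on presheaves, natural in the sheaf on `C/U` -/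
noncomputable def projNatIsoLeft (M : PMod O) :
    extP O U ⋙ tensorRight M ≅ tensorRight ((restrP O U).obj M) ⋙ extP O U :=
  NatIso.ofComponents (fun G => projIso G M) (fun g => projIso_natural_left g M)

/-- projection formula on presheaves, natural in the sheaf on `C` -/
noncomputable def projNatIsoRight (G : PMod (O.over U)) :
    tensorLeft ((extP O U).obj G) ≅ restrP O U ⋙ tensorLeft G ⋙ extP O U :=
  NatIso.ofComponents (fun M => projIso G M) (fun f => projIso_natural_right G f)

/-- Projection formula `j_!(G ⊗ M|U) ≅ j_! G ⊗ M`, natural in `G`. -/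
noncomputable def extZeroTensorIso (M : ModSite.Mod O) :
    (ModSite.tensorBi (O.over U)).flip.obj ((ModSite.restr O U).obj M) ⋙ ModSite.extZero O U ≅
      ModSite.extZero O U ⋙ (ModSite.tensorBi O).flip.obj M :=
  Functor.isoWhiskerLeft (incl (O.over U) ⋙ tensorRight ((restrP O U).obj ((incl O).obj M)))
      (shExtIso O U) ≪≫
    Functor.isoWhiskerLeft (incl (O.over U))
      (Functor.isoWhiskerRight (projNatIsoLeft ((incl O).obj M)).symm (sh O) ≪≫
        Functor.isoWhiskerLeft (extP O U) (tensorDescIso O ((incl O).obj M))) ≪≫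
    Functor.isoWhiskerRight (extZeroIso O U).symm ((ModSite.tensorBi O).flip.obj M)

/-- Projection formula `j_! P ⊗ N ≅ j_!(P ⊗ N|U)`, natural in `N`. -/
noncomputable def tensorExtZeroIso (P : ModSite.Mod (O.over U)) :
    (ModSite.tensorBi O).obj ((ModSite.extZero O U).obj P) ≅
      ModSite.restr O U ⋙ (ModSite.tensorBi (O.over U)).obj P ⋙ ModSite.extZero O U :=
  (ModSite.tensorBi O).mapIso ((extZeroIso O U).app P) ≪≫
    Functor.isoWhiskerLeft (incl O)
      ((NatIso.ofComponents
          (fun M => @asIso _ _ _ _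
            ((sh O).map ((shAdj O).unit.app ((extP O U).obj ((incl (O.over U)).obj P)) ▷ M))
            (isIso_sh_map_whiskerRight _ M))
          (fun {M M'} f => by
            show (sh O).map (_ ◁ f) ≫ (sh O).map (_ ▷ M') = (sh O).map (_ ▷ M) ≫ (sh O).map (_ ◁ f)
            rw [← Functor.map_comp, ← Functor.map_comp]
            congr 1
            exact whisker_exchange _ _) :
          tensorLeft ((extP O U).obj ((incl (O.over U)).obj P)) ⋙ sh O ≅
            tensorLeft ((incl O).obj ((sh O).obj ((extP O U).obj ((incl (O.over U)).obj P)))) ⋙ sh O).symm ≪≫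
        Functor.isoWhiskerRight (projNatIsoRight ((incl (O.over U)).obj P)) (sh O) ≪≫
        Functor.isoWhiskerLeft (restrP O U ⋙ tensorLeft ((incl (O.over U)).obj P)) (shExtIso O U).symm)

theorem isFlat_restr {M : ModSite.Mod O} (hM : ModSite.IsFlat M) :
    ModSite.IsFlat ((ModSite.restr O U).obj M) := by
  haveI := preservesMono_of_isFlat hM
  haveI : ((ModSite.tensorBi (O.over U)).flip.obj ((ModSite.restr O U).obj M) ⋙
      ModSite.extZero O U).PreservesMonomorphisms :=
    Functor.PreservesMonomorphisms.of_iso (extZeroTensorIso M).symm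
  haveI := extZero_faithful O U
  exact isFlat_iff.2 (Functor.preservesMonomorphisms_of_preserves_of_reflects _ (ModSite.extZero O U))

instance restr_preservesMonomorphisms : (ModSite.restr O U).PreservesMonomorphisms :=
  Functor.preservesMonomorphisms_of_adjunction (ModSite.extZeroAdj O U)

theorem isFlat_extZero {P : ModSite.Mod (O.over U)} (hP : ModSite.IsFlat P) :
    ModSite.IsFlat ((ModSite.extZero O U).obj P) := by
  haveI := preservesMono_of_isFlat hP
  exact isFlat_of_natIso
    ((braidIso _).symm ≪≫ tensorExtZeroIso P ≪≫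
      Functor.isoWhiskerLeft (ModSite.restr O U) (Functor.isoWhiskerRight (braidIso P) (ModSite.extZero O U)))

theorem isFlat_freeOn : ModSite.IsFlat (ModSite.freeOn O U) :=
  isFlat_extZero isFlat_unit

end Proj

section Quotient

/-- the section of `F|U` given by an element of `F(U)` -/
noncomputable def sectionOf (F : ModSite.Mod O) (U : C) (s : F.val.obj (op U)) :
    ((ModSite.restr O U).obj F).sections :=
  PresheafOfModules.sectionsMk (fun V => F.val.map V.unop.hom.op s) (fun V W f => by
    show F.val.map f.unop.left.op (F.val.map V.unop.hom.op s) = F.val.map W.unop.hom.op s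
    rw [← PresheafOfModules.map_comp_apply, ← op_comp, Over.w f.unop])

/-- the map `j_{U!} O_U ⟶ F` given by a section over `U` -/
noncomputable def freeOnHom (F : ModSite.Mod O) (U : C) (s : F.val.obj (op U)) :
    ModSite.freeOn O U ⟶ F :=
  ((ModSite.extZeroAdj O U).homEquiv _ _).symm
    (((ModSite.restr O U).obj F).unitHomEquiv.symm (sectionOf F U s))

lemma eq_of_freeOnHom {F H : ModSite.Mod O} (g h : F ⟶ H) (U : C) (s : F.val.obj (op U))
    (e : freeOnHom F U s ≫ g = freeOnHom F U s ≫ h) : g.val.app (op U) s = h.val.app (op U) s := by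
  have e1 := congrArg ((ModSite.extZeroAdj O U).homEquiv _ _) e
  simp only [freeOnHom, Adjunction.homEquiv_naturality_right, Equiv.apply_symm_apply] at e1
  rw [SheafOfModules.unitHomEquiv_symm_comp, SheafOfModules.unitHomEquiv_symm_comp] at e1
  have e2 : g.val.app (op U) (F.val.map (𝟙 U).op s) = h.val.app (op U) (F.val.map (𝟙 U).op s) :=
    congrArg (fun t => t.val (op (Over.mk (𝟙 U)))) (Equiv.injective _ e1)
  simpa using e2

/-- Every module is a quotient of a flat one. -/
theorem exists_flat_quotient (F : ModSite.Mod O) :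
    ∃ (G : ModSite.Mod O) (π : G ⟶ F), ModSite.IsFlat G ∧ Epi π := by
  let f : (Σ U : C, F.val.obj (op U)) → ModSite.Mod O := fun i => ModSite.freeOn O i.1
  refine ⟨∐ f, Sigma.desc fun i => freeOnHom F i.1 i.2,
    isFlat_coproduct f (fun _ => isFlat_freeOn) _ (coproductIsCoproduct f), ⟨fun {H} g h e => ?_⟩⟩
  apply SheafOfModules.hom_ext
  refine PresheafOfModules.hom_ext fun X => ModuleCat.hom_ext (LinearMap.ext fun s => ?_)
  refine eq_of_freeOnHom g h X.unop s ?_
  simpa using congrArg (Sigma.ι f ⟨X.unop, s⟩ ≫ ·) e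

end Quotient

section ShortExact

lemma exact_epi_map {A B : Type*} [Category* A] [Category* B] [Abelian A] [Abelian B] (F : A ⥤ B)
    [F.Additive] [PreservesFiniteColimits F] {S : ShortComplex A} (hS : S.ShortExact) :
    (S.map F).Exact ∧ Epi (F.map S.g) := by
  have h : ∀ S : ShortComplex A, S.ShortExact → (S.map F).Exact ∧ Epi (F.map S.g) :=
    ((Functor.preservesFiniteColimits_tfae F).out 3 0).mp ‹PreservesFiniteColimits F›
  exact h S hS

variable {S : ShortComplex (ModSite.Mod O)}

/-- `G ⊗ -` preserves short exact sequences with flat quotient. -/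
theorem shortExact_map_of_isFlat (hS : S.ShortExact) (h₃ : ModSite.IsFlat S.X₃)
    (G : ModSite.Mod O) : (S.map ((ModSite.tensorBi O).obj G)).ShortExact := by
  have hex : ∀ H : ModSite.Mod O,
      (S.map ((ModSite.tensorBi O).obj H)).Exact ∧ Epi (((ModSite.tensorBi O).obj H).map S.g) :=
    fun H => exact_epi_map _ hS
  obtain ⟨P, π, hP, hπ⟩ := exists_flat_quotient G
  let T : ShortComplex (ModSite.Mod O) := ShortComplex.mk (kernel.ι π) π (kernel.condition π)
  have hT : T.ShortExact :=
    { exact := T.exact_of_f_is_kernel (kernelIsKernel π)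
      mono_f := inferInstanceAs (Mono (kernel.ι π))
      epi_g := hπ }
  have hcol : ∀ X : ModSite.Mod O, (T.map ((ModSite.tensorBi O).flip.obj X)).Exact ∧
      Epi (((ModSite.tensorBi O).flip.obj X).map π) :=
    fun X => exact_epi_map _ hT
  let Q := ((ModSite.tensorBi O).obj G).map S.f
  haveI := mono_tensor_map_of_isFlat h₃ (kernel.ι π)
  haveI := hS.mono_f
  haveI := mono_map_of_isFlat hP S.f
  haveI := (hcol S.X₁).2
  haveI : Mono Q := by
    refine Preadditive.mono_of_cancel_zero _ fun {A} x hx => ?_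
    obtain ⟨A₁, p₁, _, y, hy⟩ :
        ∃ (A₁ : _) (p₁ : A₁ ⟶ A) (_ : Epi p₁) (y : A₁ ⟶ ((ModSite.tensorBi O).obj P).obj S.X₁),
          p₁ ≫ x = y ≫ ((ModSite.tensorBi O).map π).app S.X₁ :=
      surjective_up_to_refinements_of_epi (((ModSite.tensorBi O).flip.obj S.X₁).map π) x
    have hy' : (y ≫ ((ModSite.tensorBi O).obj P).map S.f) ≫ ((ModSite.tensorBi O).map π).app S.X₂ = 0 := by
      rw [Category.assoc, NatTrans.naturality, ← Category.assoc, ← hy, Category.assoc, hx, comp_zero]
    obtain ⟨A₂, p₂, _, z, hz⟩ :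
        ∃ (A₂ : _) (p₂ : A₂ ⟶ A₁) (_ : Epi p₂) (z : A₂ ⟶ ((ModSite.tensorBi O).obj (kernel π)).obj S.X₂),
          p₂ ≫ y ≫ ((ModSite.tensorBi O).obj P).map S.f =
            z ≫ ((ModSite.tensorBi O).map (kernel.ι π)).app S.X₂ :=
      (hcol S.X₂).1.exact_up_to_refinements _ hy'
    have hz' : z ≫ ((ModSite.tensorBi O).obj (kernel π)).map S.g = 0 := by
      rw [← cancel_mono (((ModSite.tensorBi O).map (kernel.ι π)).app S.X₃), zero_comp, Category.assoc,
        NatTrans.naturality, ← Category.assoc, ← hz]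
      simp [← Functor.map_comp]
    obtain ⟨A₃, p₃, _, w, hw⟩ :
        ∃ (A₃ : _) (p₃ : A₃ ⟶ A₂) (_ : Epi p₃) (w : A₃ ⟶ ((ModSite.tensorBi O).obj (kernel π)).obj S.X₁),
          p₃ ≫ z = w ≫ ((ModSite.tensorBi O).obj (kernel π)).map S.f :=
      (hex (kernel π)).1.exact_up_to_refinements _ hz'
    have key : p₃ ≫ p₂ ≫ y = w ≫ ((ModSite.tensorBi O).map (kernel.ι π)).app S.X₁ := by
      rw [← cancel_mono (((ModSite.tensorBi O).obj P).map S.f), Category.assoc, Category.assoc,
        Category.assoc, hz, reassoc_of% hw, NatTrans.naturality]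
    have : (p₃ ≫ p₂ ≫ p₁) ≫ x = 0 := by
      rw [Category.assoc, Category.assoc, hy, reassoc_of% key, ← NatTrans.comp_app, ← Functor.map_comp,
        kernel.condition]
      have h0 : ((ModSite.tensorBi O).map (0 : kernel π ⟶ G)).app S.X₁ = 0 :=
        ((ModSite.tensorBi O).flip.obj S.X₁).map_zero _ _
      rw [h0, comp_zero]
    exact zero_of_epi_comp _ this
  exact { exact := (hex G).1, mono_f := this, epi_g := (hex G).2 }

theorem isFlat_middle (hS : S.ShortExact) (h₁ : ModSite.IsFlat S.X₁) (h₃ : ModSite.IsFlat S.X₃) :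
    ModSite.IsFlat S.X₂ := by
  refine isFlat_iff.2 ⟨fun {A B} φ _ => ?_⟩
  haveI := mono_tensor_map_of_isFlat h₁ φ
  haveI := mono_tensor_map_of_isFlat h₃ φ
  haveI := (shortExact_map_of_isFlat hS h₃ B).mono_f
  haveI := (shortExact_map_of_isFlat hS h₃ A).mono_f
  haveI : Mono (S.mapNatTrans ((ModSite.tensorBi O).map φ)).τ₁ :=
    mono_tensor_map_of_isFlat h₁ φ
  haveI : Mono (S.mapNatTrans ((ModSite.tensorBi O).map φ)).τ₃ :=
    mono_tensor_map_of_isFlat h₃ φ
  exact ShortComplex.mono_τ₂_of_exact_of_mono (S.mapNatTrans ((ModSite.tensorBi O).map φ))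
    (shortExact_map_of_isFlat hS h₃ A).exact

theorem isFlat_left (hS : S.ShortExact) (h₂ : ModSite.IsFlat S.X₂) (h₃ : ModSite.IsFlat S.X₃) :
    ModSite.IsFlat S.X₁ := by
  refine isFlat_iff.2 ⟨fun {A B} φ _ => ?_⟩
  haveI := mono_tensor_map_of_isFlat h₂ φ
  haveI : Mono (((ModSite.tensorBi O).obj A).map S.f) := (shortExact_map_of_isFlat hS h₃ A).mono_f
  haveI : Mono (((ModSite.tensorBi O).map φ).app S.X₁ ≫ ((ModSite.tensorBi O).obj B).map S.f) := by
    rw [← NatTrans.naturality]; infer_instance
  exact mono_of_mono (((ModSite.tensorBi O).map φ).app S.X₁) (((ModSite.tensorBi O).obj B).map S.f)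

end ShortExact

end Groth.Agent.SiteBase
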