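import Mathlib.Algebra.Category.ModuleCat.Presheaf.Monoidal
import Mathlib.Algebra.Category.ModuleCat.Sheaf
import Mathlib.Algebra.Category.ModuleCat.Presheaf.Abelian
import Mathlib.CategoryTheory.Sites.LocallyBijective
import Mathlib.CategoryTheory.Sites.Whiskering
import Mathlib.Algebra.Category.Grp.FilteredColimits
import Mathlib.Algebra.Category.Grp.Limits

/-! # Tensoring presheaves of modules preserves local isomorphisms

For `f : M ⟶ N` locally bijective and `S` a sheaf, maps `N ⊗ G ⟶ S` are maps `M ⊗ G ⟶ S`. -/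

universe u

open CategoryTheory MonoidalCategory Limits Opposite TensorProduct

namespace Groth.Agent.SiteBase

variable {C : Type u} [SmallCategory C] (J : GrothendieckTopology C) {R : Cᵒᵖ ⥤ CommRingCat.{u}}
  {M N G S : PresheafOfModules.{u} (R ⋙ forget₂ CommRingCat.{u} RingCat.{u})}
  (f : M ⟶ N) (h : M ⊗ G ⟶ S) (hS : Presheaf.IsSheaf J S.presheaf)

/-- The bilinear map underlying `h`. -/
noncomputable abbrev bil (U : Cᵒᵖ) (m : M.obj U) (g : G.obj U) : S.obj U :=
  (h.app U).hom (m ⊗ₜ[R.obj U] g)

lemma bil_map {U V : Cᵒᵖ} (a : U ⟶ V) (m : M.obj U) (g : G.obj U) :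
    S.map a (bil h U m g) = bil h V (M.map a m) (G.map a g) :=
  (PresheafOfModules.naturality_apply h a (m ⊗ₜ[R.obj U] g)).symm

lemma bil_add_left (U : Cᵒᵖ) (m m' : M.obj U) (g : G.obj U) :
    bil h U (m + m') g = bil h U m g + bil h U m' g :=
  (congrArg (h.app U).hom (TensorProduct.add_tmul m m' g)).trans (map_add (h.app U).hom _ _)

lemma bil_add_right (U : Cᵒᵖ) (m : M.obj U) (g g' : G.obj U) :
    bil h U m (g + g') = bil h U m g + bil h U m g' :=
  (congrArg (h.app U).hom (TensorProduct.tmul_add m g g')).trans (map_add (h.app U).hom _ _)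

lemma bil_smul_left (U : Cᵒᵖ) (r : R.obj U) (m : M.obj U) (g : G.obj U) :
    bil h U (r • m) g = r • bil h U m g :=
  map_smul (h.app U).hom r (m ⊗ₜ[R.obj U] g)

lemma bil_smul_right (U : Cᵒᵖ) (r : R.obj U) (m : M.obj U) (g : G.obj U) :
    bil h U m (r • g) = r • bil h U m g :=
  Eq.trans (congrArg (h.app U).hom (TensorProduct.smul_tmul (R := R.obj U) (R' := R.obj U) r m g).symm)
    (bil_smul_left h U r m g)

include hS in
lemma sheaf_ext {U : C} {T : Sieve U} (hT : T ∈ J U) {a b : S.obj (op U)}
    (H : ∀ ⦃V : C⦄ (p : V ⟶ U), T p → S.map p.op a = S.map p.op b) : a = b :=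
  hS.isSeparated U T hT a b H

variable [hinj : Presheaf.IsLocallyInjective J ((PresheafOfModules.toPresheaf _).map f)]
  [hsurj : Presheaf.IsLocallySurjective J ((PresheafOfModules.toPresheaf _).map f)]

include hS hinj in
lemma bil_eq_of_eq {U : C} (m m' : M.obj (op U)) (g : G.obj (op U))
    (e : f.app (op U) m = f.app (op U) m') : bil h (op U) m g = bil h (op U) m' g := by
  refine sheaf_ext J hS (Presheaf.equalizerSieve_mem J ((PresheafOfModules.toPresheaf _).map f)
    (X := op U) (m : M.presheaf.obj (op U)) m' e) fun V p hp => ?_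
  rw [bil_map, bil_map]
  exact congrArg (fun t => bil h (op V) t (G.map p.op g)) hp

/-- `t` is the value at `(n, g)` of the extension of the bilinear map. -/
def IsExt {U : C} (n : N.obj (op U)) (g : G.obj (op U)) (t : S.obj (op U)) : Prop :=
  ∀ ⦃V : C⦄ (p : V ⟶ U) (m : M.obj (op V)), f.app (op V) m = N.map p.op n →
    S.map p.op t = bil h (op V) m (G.map p.op g)

/-- The sieve where `n` lifts along `f`. -/
def liftSieve {U : C} (n : N.obj (op U)) : Sieve U where
  arrows V p := ∃ m : M.obj (op V), f.app (op V) m = N.map p.op n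
  downward_closed := by
    rintro V W p ⟨m, hm⟩ q
    refine ⟨M.map q.op m, ?_⟩
    rw [PresheafOfModules.naturality_apply, hm, op_comp, PresheafOfModules.map_comp_apply]

include hsurj in
omit hinj in
lemma liftSieve_mem {U : C} (n : N.obj (op U)) : liftSieve f n ∈ J U :=
  J.superset_covering (fun V p hp => hp)
    (Presheaf.imageSieve_mem J ((PresheafOfModules.toPresheaf _).map f) (n : N.presheaf.obj (op U)))

include hS hinj hsurj in
lemma IsExt.unique {U : C} {n : N.obj (op U)} {g : G.obj (op U)} {t t' : S.obj (op U)}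
    (h₁ : IsExt f h n g t) (h₂ : IsExt f h n g t') : t = t' := by
  refine sheaf_ext J hS (liftSieve_mem J f n) fun V p hp => ?_
  obtain ⟨m, hm⟩ := hp
  rw [h₁ p m hm, h₂ p m hm]

include hS hinj hsurj in
lemma exists_isExt {U : C} (n : N.obj (op U)) (g : G.obj (op U)) : ∃ t, IsExt f h n g t := by
  let T := liftSieve f n
  have hsh : Presieve.IsSheaf J (S.presheaf ⋙ forget AddCommGrpCat.{u}) :=
    (isSheaf_iff_isSheaf_of_type _ _).mp ((Presheaf.isSheaf_iff_isSheaf_comp J S.presheaf (forget _)).mp hS)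
  let x : Presieve.FamilyOfElements (S.presheaf ⋙ forget AddCommGrpCat.{u}) T.arrows :=
    fun V p hp => bil h (op V) hp.choose (G.map p.op g)
  have hx : x.Compatible := by
    intro V₁ V₂ W q₁ q₂ p₁ p₂ hp₁ hp₂ e
    show S.map q₁.op (bil h _ _ _) = S.map q₂.op (bil h _ _ _)
    rw [bil_map, bil_map, ← PresheafOfModules.map_comp_apply, ← PresheafOfModules.map_comp_apply,
      ← op_comp, ← op_comp, e]
    refine bil_eq_of_eq J f h hS _ _ _ ?_
    have e₁ : f.app (op V₁) hp₁.choose = N.map p₁.op n := hp₁.choose_spec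
    have e₂ : f.app (op V₂) hp₂.choose = N.map p₂.op n := hp₂.choose_spec
    rw [PresheafOfModules.naturality_apply, PresheafOfModules.naturality_apply, e₁, e₂,
      ← PresheafOfModules.map_comp_apply, ← PresheafOfModules.map_comp_apply, ← op_comp, ← op_comp, e]
  obtain ⟨t, ht, -⟩ := hsh T (liftSieve_mem J f n) x hx
  refine ⟨t, fun V p m hm => sheaf_ext J hS (J.pullback_stable p (liftSieve_mem J f n)) fun W q hq => ?_⟩
  rw [bil_map, ← PresheafOfModules.map_comp_apply, ← PresheafOfModules.map_comp_apply, ← op_comp]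
  refine (ht (q ≫ p) hq).trans (bil_eq_of_eq J f h hS _ _ _ ?_)
  have e₁ : f.app (op W) (Exists.choose (show T (q ≫ p) from hq)) = N.map (q ≫ p).op n :=
    Exists.choose_spec (show T (q ≫ p) from hq)
  rw [e₁, PresheafOfModules.naturality_apply, hm, op_comp, PresheafOfModules.map_comp_apply]

/-- The extended bilinear map. -/
noncomputable def extVal {U : C} (n : N.obj (op U)) (g : G.obj (op U)) : S.obj (op U) :=
  (exists_isExt J f h hS n g).choose

lemma extVal_spec {U : C} (n : N.obj (op U)) (g : G.obj (op U)) :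
    IsExt f h n g (extVal J f h hS n g) :=
  (exists_isExt J f h hS n g).choose_spec

lemma extVal_eq {U : C} {n : N.obj (op U)} {g : G.obj (op U)} {t : S.obj (op U)}
    (ht : IsExt f h n g t) : extVal J f h hS n g = t :=
  (extVal_spec J f h hS n g).unique J f h hS ht

include hS hinj hsurj in
lemma IsExt.add_left {U : C} {n n' : N.obj (op U)} {g : G.obj (op U)} {t t' : S.obj (op U)}
    (h₁ : IsExt f h n g t) (h₂ : IsExt f h n' g t') : IsExt f h (n + n') g (t + t') := by
  intro V p m hm
  refine sheaf_ext J hS (J.intersection_covering (J.pullback_stable p (liftSieve_mem J f n))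
    (J.pullback_stable p (liftSieve_mem J f n'))) fun W q hq => ?_
  obtain ⟨⟨m₁, hm₁⟩, ⟨m₂, hm₂⟩⟩ := hq
  have hm₁' : f.app (op W) m₁ = N.map (q ≫ p).op n := hm₁
  have hm₂' : f.app (op W) m₂ = N.map (q ≫ p).op n' := hm₂
  rw [bil_map, ← PresheafOfModules.map_comp_apply, ← PresheafOfModules.map_comp_apply, ← op_comp,
    map_add, h₁ (q ≫ p) m₁ hm₁', h₂ (q ≫ p) m₂ hm₂']
  refine Eq.trans ?_ (bil_eq_of_eq J f h hS (m₁ + m₂) (M.map q.op m) (G.map (q ≫ p).op g) ?_)
  · exact (bil_add_left h _ m₁ m₂ _).symm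
  · rw [map_add, hm₁', hm₂', PresheafOfModules.naturality_apply, hm, op_comp,
      PresheafOfModules.map_comp_apply, PresheafOfModules.map_comp_apply]
    exact ((congrArg (N.map q.op) (map_add (N.map p.op).hom n n')).trans (map_add (N.map q.op).hom _ _)).symm

include hS hinj hsurj in
lemma IsExt.smul_left {U : C} {n : N.obj (op U)} {g : G.obj (op U)} {t : S.obj (op U)}
    (r : R.obj (op U)) (h₁ : IsExt f h n g t) : IsExt f h (r • n) g (r • t) := by
  intro V p m hm
  refine sheaf_ext J hS (J.pullback_stable p (liftSieve_mem J f n)) fun W q hq => ?_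
  obtain ⟨m₁, hm₁⟩ := hq
  have hm₁' : f.app (op W) m₁ = N.map (q ≫ p).op n := hm₁
  rw [bil_map, ← PresheafOfModules.map_comp_apply, ← PresheafOfModules.map_comp_apply, ← op_comp]
  erw [PresheafOfModules.map_smul]
  rw [h₁ (q ≫ p) m₁ hm₁']
  refine Eq.trans ?_ (bil_eq_of_eq J f h hS ((R.map (q ≫ p).op) r • m₁) (M.map q.op m) (G.map (q ≫ p).op g) ?_)
  · exact (bil_smul_left h _ _ m₁ _).symm
  · rw [PresheafOfModules.naturality_apply, hm, ← PresheafOfModules.map_comp_apply, ← op_comp]
    erw [PresheafOfModules.map_smul, map_smul]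
    rw [hm₁']
    rfl

include hS hinj hsurj in
lemma exists_extension : ∃ h' : N ⊗ G ⟶ S, (f ▷ G) ≫ h' = h := by
  refine ⟨
    { app := fun U => ModuleCat.MonoidalCategory.tensorLift (fun n g => extVal J f h hS (U := U.unop) n g)
        (fun n n' g => extVal_eq J f h hS ((extVal_spec J f h hS n g).add_left J f h hS (extVal_spec J f h hS n' g)))
        (fun r n g => extVal_eq J f h hS ((extVal_spec J f h hS n g).smul_left J f h hS r))
        (fun n g g' => extVal_eq J f h hS ?_)
        (fun r n g => extVal_eq J f h hS ?_)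
      naturality := fun {U V} a => ModuleCat.MonoidalCategory.tensor_ext fun n g => ?_ }, ?_⟩
  · intro V p m hm
    rw [map_add, extVal_spec J f h hS n g p m hm, extVal_spec J f h hS n g' p m hm]
    exact (bil_add_right h _ m _ _).symm.trans (congrArg (bil h (op V) m) (map_add (G.map p.op).hom g g').symm)
  · intro V p m hm
    erw [PresheafOfModules.map_smul, PresheafOfModules.map_smul]
    rw [extVal_spec J f h hS n g p m hm]
    exact (bil_smul_right h _ _ m _).symm
  · show extVal J f h hS (U := V.unop) (N.map a n) (G.map a g) = S.map a (extVal J f h hS (U := U.unop) n g)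
    refine extVal_eq J f h hS fun W p m hm => ?_
    rw [← PresheafOfModules.map_comp_apply, ← PresheafOfModules.map_comp_apply]
    refine extVal_spec J f h hS n g (p ≫ a.unop) m ?_
    rw [hm, ← PresheafOfModules.map_comp_apply]
    rfl
  · ext1 U
    refine ModuleCat.MonoidalCategory.tensor_ext fun m g => ?_
    show extVal J f h hS (U := U.unop) (f.app U m) g = bil h U m g
    refine extVal_eq J f h hS fun V p m' hm => ?_
    rw [bil_map]
    exact bil_eq_of_eq J f h hS _ _ _ (by rw [hm, PresheafOfModules.naturality_apply])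

include hS hsurj in
omit hinj in
lemma extension_unique {a b : N ⊗ G ⟶ S} (e : (f ▷ G) ≫ a = (f ▷ G) ≫ b) : a = b := by
  ext1 U
  refine ModuleCat.MonoidalCategory.tensor_ext fun n g => ?_
  refine sheaf_ext J hS (liftSieve_mem J f (U := U.unop) n) fun V p hp => ?_
  obtain ⟨m, hm⟩ := hp
  change S.map p.op (bil a U n g) = S.map p.op (bil b U n g)
  rw [bil_map, bil_map, ← hm]
  exact ConcreteCategory.congr_hom (congrArg (fun t => PresheafOfModules.Hom.app t (op V)) e)
    (m ⊗ₜ[R.obj (op V)] G.map p.op g)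

include hS hinj hsurj in
/-- Precomposition with `f ▷ G` is bijective on maps into a sheaf. -/
theorem whiskerRight_precomp_bijective :
    Function.Bijective (fun h' : N ⊗ G ⟶ S => (f ▷ G) ≫ h') :=
  ⟨fun _ _ e => extension_unique J f hS e, fun h => exists_extension J f h hS⟩

end Groth.Agent.SiteBase
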