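import Groth.Prelude.Def_ModSite
import Groth.Agent.SiteBase.TensorW
import Groth.Agent.SiteBase.ModColimits
import Groth.Agent.SiteBase.ModGrothendieck

/-! # Tensor products of sheaves of modules on a ringed site -/

universe u

open CategoryTheory MonoidalCategory Limits Opposite

namespace Groth.Agent.SiteBase

variable {C : Type u} [SmallCategory C] {J : GrothendieckTopology C} (O : Sheaf J CommRingCat.{u})

/-- presheaves of modules over the underlying presheaf of rings of `O` -/
abbrev PMod := PresheafOfModules.{u} (O.obj ⋙ forget₂ CommRingCat.{u} RingCat.{u})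

/-- sheafification -/
noncomputable abbrev sh : PMod O ⥤ ModSite.Mod O := ModSite.sheafify O

/-- inclusion of sheaves in presheaves -/
noncomputable abbrev incl : ModSite.Mod O ⥤ PMod O := SheafOfModules.forget (ModSite.ringSh O)

/-- The sheafification adjunction. -/
noncomputable def shAdj : sh O ⊣ incl O :=
  (PresheafOfModules.sheafificationAdjunction.{u} (𝟙 (ModSite.ringSh O).obj)).ofNatIsoRight
    (Functor.isoWhiskerLeft _ (NatIso.ofComponents fun _ => Iso.refl _) ≪≫ Functor.rightUnitor _)

variable {O}

lemma isIso_of_precomp_bijective {A B : ModSite.Mod O} (f : A ⟶ B)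
    (h : ∀ S : ModSite.Mod O, Function.Bijective fun g : B ⟶ S => f ≫ g) : IsIso f := by
  obtain ⟨g, hg⟩ := (h A).2 (𝟙 A)
  refine ⟨g, hg, (h B).1 ?_⟩
  simp only at hg ⊢
  rw [reassoc_of% hg, Category.comp_id]

lemma toPresheaf_map_unit (P : PMod O) :
    (PresheafOfModules.toPresheaf _).map ((shAdj O).unit.app P) = CategoryTheory.toSheafify J P.presheaf := by
  rfl

instance isLocallyInjective_unit (P : PMod O) :
    Presheaf.IsLocallyInjective J ((PresheafOfModules.toPresheaf _).map ((shAdj O).unit.app P)) := by
  rw [toPresheaf_map_unit]; exact (J.W_toSheafify (A := AddCommGrpCat.{u}) P.presheaf).isLocallyInjective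

instance isLocallySurjective_unit (P : PMod O) :
    Presheaf.IsLocallySurjective J ((PresheafOfModules.toPresheaf _).map ((shAdj O).unit.app P)) := by
  rw [toPresheaf_map_unit]; exact (J.W_toSheafify (A := AddCommGrpCat.{u}) P.presheaf).isLocallySurjective

/-- Sheafification inverts `f ▷ G` for a locally bijective `f`. -/
theorem isIso_sh_map_whiskerRight {M N : PMod O} (f : M ⟶ N)
    [Presheaf.IsLocallyInjective J ((PresheafOfModules.toPresheaf _).map f)]
    [Presheaf.IsLocallySurjective J ((PresheafOfModules.toPresheaf _).map f)] (G : PMod O) :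
    IsIso ((sh O).map (f ▷ G)) := by
  refine isIso_of_precomp_bijective _ fun S => ?_
  have h := whiskerRight_precomp_bijective J (G := G) (S := (incl O).obj S) f S.isSheaf
  have e : (fun g : (sh O).obj (N ⊗ G) ⟶ S => (sh O).map (f ▷ G) ≫ g) =
      ((shAdj O).homEquiv _ _).symm ∘ (fun h' => (f ▷ G) ≫ h') ∘ (shAdj O).homEquiv _ _ := by
    funext g
    simp [Adjunction.homEquiv_naturality_left_symm]
  rw [e]
  exact ((shAdj O).homEquiv _ _).symm.bijective.comp (h.comp ((shAdj O).homEquiv _ _).bijective)

theorem isIso_sh_map_whiskerLeft {M N : PMod O} (f : M ⟶ N)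
    [Presheaf.IsLocallyInjective J ((PresheafOfModules.toPresheaf _).map f)]
    [Presheaf.IsLocallySurjective J ((PresheafOfModules.toPresheaf _).map f)] (G : PMod O) :
    IsIso ((sh O).map (G ◁ f)) := by
  have := isIso_sh_map_whiskerRight f G
  have e : G ◁ f = (β_ G M).hom ≫ (f ▷ G) ≫ (β_ N G).hom := by
    simp [← BraidedCategory.braiding_naturality_right_assoc]
  rw [e, Functor.map_comp, Functor.map_comp]
  infer_instance

/-- tensoring with `G` on presheaves of modules preserves colimits -/
instance tensorRight_preservesColimitsOfSize (G : PMod O) :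
    PreservesColimitsOfSize.{u, u} (tensorRight G) := by
  refine ⟨fun {K} _ => ⟨fun {F} => ⟨fun {c} hc => ⟨PresheafOfModules.evaluationJointlyReflectsColimits _ _ fun U => ?_⟩⟩⟩⟩
  exact isColimitOfPreserves (tensorRight (C := ModuleCat (O.obj.obj U)) (G.obj U))
    (isColimitOfPreserves (PresheafOfModules.evaluation _ U) hc)

instance tensorLeft_preservesColimitsOfSize (G : PMod O) :
    PreservesColimitsOfSize.{u, u} (tensorLeft G) :=
  preservesColimits_of_natIso (BraidedCategory.tensorLeftIsoTensorRight G).symm

variable (O) in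
/-- `F ↦ (F ⊗ G)^#` computed on the sheafification agrees with the one on presheaves. -/
noncomputable def tensorDescIso (G : PMod O) :
    tensorRight G ⋙ sh O ≅ sh O ⋙ incl O ⋙ tensorRight G ⋙ sh O :=
  NatIso.ofComponents
    (fun P => @asIso _ _ _ _ ((sh O).map ((shAdj O).unit.app P ▷ G)) (isIso_sh_map_whiskerRight _ G))
    (fun {P Q} f => by
      show (sh O).map (f ▷ G) ≫ (sh O).map ((shAdj O).unit.app Q ▷ G) =
        (sh O).map ((shAdj O).unit.app P ▷ G) ≫ (sh O).map ((incl O).map ((sh O).map f) ▷ G)
      rw [← Functor.map_comp, ← Functor.map_comp, ← comp_whiskerRight, ← comp_whiskerRight]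
      congr 2
      exact (shAdj O).unit.naturality f)

instance isIso_shAdj_counit : IsIso (shAdj O).counit := by
  have : (incl O).Full := (SheafOfModules.fullyFaithfulForget (ModSite.ringSh O)).full
  have : (incl O).Faithful := (SheafOfModules.fullyFaithfulForget (ModSite.ringSh O)).faithful
  infer_instance

instance sh_preservesColimitsOfSize : PreservesColimitsOfSize.{u, u} (sh O) :=
  (shAdj O).leftAdjoint_preservesColimits

/-- `- ⊗_O F` preserves colimits. -/
instance tensorBi_flip_preservesColimitsOfSize (F : ModSite.Mod O) :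
    PreservesColimitsOfSize.{u, u} ((ModSite.tensorBi O).flip.obj F) := by
  refine ⟨fun {K} _ => ?_⟩
  show PreservesColimitsOfShape K (incl O ⋙ tensorRight ((incl O).obj F) ⋙ sh O)
  have : PreservesColimitsOfShape K (sh O ⋙ incl O ⋙ tensorRight ((incl O).obj F) ⋙ sh O) :=
    preservesColimitsOfShape_of_natIso (tensorDescIso O ((incl O).obj F))
  exact preservesColimitsOfShape_of_reflective (shAdj O) _ K

theorem hasSheafHom (F : ModSite.Mod O) : ModSite.HasSheafHom F := by
  obtain ⟨G, hG⟩ := HasSeparator.hasSeparator (C := ModSite.Mod O)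
  haveI : WellPowered.{u} (ModSite.Mod O) := IsGrothendieckAbelian.wellPowered.{u} _
  haveI : WellPowered.{u} (ModSite.Mod O)ᵒᵖ := Abelian.wellPowered_opposite
  exact isLeftAdjoint_of_preservesColimits_of_isSeparating hG _

instance hasSheafHom_inst (F : ModSite.Mod O) : ModSite.HasSheafHom F := hasSheafHom F

end Groth.Agent.SiteBase
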