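import Mathlib.CategoryTheory.Sites.CoverLifting
import Mathlib.CategoryTheory.Sites.Pullback
import Mathlib.CategoryTheory.Sites.Over
import Mathlib.CategoryTheory.Adjunction.Triple

/-! # Fully faithful cocontinuous continuous functors: `g^{-1} g_! = id` and `g^{-1} g_* = id` -/

universe v₁ v₂ u₁ u₂ w' w

open CategoryTheory Limits

namespace Groth.Agent.SiteBase

variable {C : Type u₁} [Category.{v₁} C] {D : Type u₂} [Category.{v₂} D] (G : C ⥤ D)
  (A : Type w) [Category.{w'} A] (J : GrothendieckTopology C) (K : GrothendieckTopology D)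
  [G.IsCocontinuous J K] [G.IsContinuous J K] [G.Full] [G.Faithful]
  [∀ (F : Cᵒᵖ ⥤ A), G.op.HasPointwiseRightKanExtension F]

lemma isIso_sheafAdjunctionCocontinuous_counit :
    IsIso (G.sheafAdjunctionCocontinuous A J K).counit := by
  have : ∀ F, IsIso ((G.sheafAdjunctionCocontinuous A J K).counit.app F) := by
    intro F
    have : IsIso ((sheafToPresheaf J A).map ((G.sheafAdjunctionCocontinuous A J K).counit.app F)) := by
      show IsIso ((G.sheafAdjunctionCocontinuous A J K).counit.app F).hom
      rw [Functor.sheafAdjunctionCocontinuous_counit_app_hom, Functor.ranAdjunction_counit]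
      exact (G.op.isPointwiseRightKanExtensionRanCounit F.obj).isIso_hom
    exact isIso_of_reflects_iso _ (sheafToPresheaf J A)
  exact NatIso.isIso_of_isIso_app _

lemma isIso_sheafAdjunctionContinuous_unit [(G.sheafPushforwardContinuous A J K).IsRightAdjoint] :
    IsIso (G.sheafAdjunctionContinuous A J K).unit :=
  (Adjunction.Triple.isIso_unit_iff_isIso_counit
    ⟨G.sheafAdjunctionContinuous A J K, G.sheafAdjunctionCocontinuous A J K⟩).mpr
    (isIso_sheafAdjunctionCocontinuous_counit G A J K)

lemma sheafPullback_fullyFaithful [(G.sheafPushforwardContinuous A J K).IsRightAdjoint] :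
    (G.sheafPullback A J K).Full ∧ (G.sheafPullback A J K).Faithful :=
  have := isIso_sheafAdjunctionContinuous_unit G A J K
  ⟨(G.sheafAdjunctionContinuous A J K).fullyFaithfulLOfIsIsoUnit.full,
    (G.sheafAdjunctionContinuous A J K).fullyFaithfulLOfIsIsoUnit.faithful⟩

lemma overForget_full {U : C} (hU : ∀ V : C, Subsingleton (V ⟶ U)) : (Over.forget U).Full :=
  ⟨fun {X Y} f => ⟨Over.homMk f (@Subsingleton.elim _ (hU _) _ _), rfl⟩⟩

end Groth.Agent.SiteBase
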