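import Groth.Agent.SiteBase.ExtZero

/-! # Extension by zero for modules over a sheaf of rings -/

set_option autoImplicit false
set_option linter.all false
set_option maxHeartbeats 1000000
set_option backward.isDefEq.respectTransparency false
set_option backward.defeqAttrib.useBackward true

universe u

open CategoryTheory Limits Opposite

namespace Groth.Agent.SiteBase.Ring

variable {C : Type u} [SmallCategory C] {J : GrothendieckTopology C} (O : Sheaf J RingCat.{u})
  (U : C)

/-- presheaves of modules -/
abbrev PMod {C : Type u} [SmallCategory C] {J : GrothendieckTopology C} (O : Sheaf J RingCat.{u}) :=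
  PresheafOfModules.{u} O.obj

/-- Restriction of presheaves of modules to `C/U`. -/
noncomputable abbrev restrP : PMod O ⥤ PMod (O.over U) :=
  PresheafOfModules.pushforward.{u} (F := Over.forget U) (R := O.obj) (𝟙 (O.over U).obj)

noncomputable instance moduleOver (G : PMod (O.over U)) (V : (Over U)ᵒᵖ) :
    Module (O.obj.obj (op V.unop.left)) (G.obj V) :=
  (G.obj V).isModule

variable {O U}

/-- the components of extension by zero -/
abbrev extComp (G : PMod (O.over U)) (X : Cᵒᵖ) (a : X.unop ⟶ U) : Type u :=
  G.obj (op (Over.mk a))

noncomputable instance moduleExtComp (G : PMod (O.over U)) (X : Cᵒᵖ) (a : X.unop ⟶ U) :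
    Module (O.obj.obj X) (extComp G X a) :=
  moduleOver O U G (op (Over.mk a))

open scoped Classical in
/-- the transition map on one component -/
noncomputable def extMapComp (G : PMod (O.over U)) {X Y : Cᵒᵖ} (g : X ⟶ Y) (a : X.unop ⟶ U) :
    extComp G X a →+ DirectSum (Y.unop ⟶ U) (extComp G Y) :=
  (DirectSum.of (extComp G Y) (g.unop ≫ a)).comp
    ((G.map (Over.homMk g.unop : Over.mk (g.unop ≫ a) ⟶ Over.mk a).op).hom.toAddMonoidHom)

open scoped Classical in
/-- the transition map -/
noncomputable def extMap (G : PMod (O.over U)) {X Y : Cᵒᵖ} (g : X ⟶ Y) :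
    DirectSum (X.unop ⟶ U) (extComp G X) →+ DirectSum (Y.unop ⟶ U) (extComp G Y) :=
  DirectSum.toAddMonoid (extMapComp G g)

open scoped Classical in
lemma extMap_of (G : PMod (O.over U)) {X Y : Cᵒᵖ} (g : X ⟶ Y) (a : X.unop ⟶ U) (m : extComp G X a) :
    extMap G g (DirectSum.of (extComp G X) a m) = DirectSum.of (extComp G Y) (g.unop ≫ a)
      (G.map (Over.homMk g.unop : Over.mk (g.unop ≫ a) ⟶ Over.mk a).op m) := by
  simp [extMap, extMapComp]
  rfl

open scoped Classical in
lemma extMap_smul (G : PMod (O.over U)) {X Y : Cᵒᵖ} (g : X ⟶ Y) (r : O.obj.obj X)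
    (x : DirectSum (X.unop ⟶ U) (extComp G X)) :
    extMap G g (r • x) = (O.obj.map g) r • extMap G g x := by
  induction x using DirectSum.induction_on with
  | zero => simp
  | add x y hx hy => simp [smul_add, hx, hy]
  | of a m =>
    have h1 : r • DirectSum.of (extComp G X) a m = DirectSum.of (extComp G X) a (r • m) :=
      (map_smul (DirectSum.lof (O.obj.obj X) _ (extComp G X) a) r m).symm
    have h2 := (map_smul (DirectSum.lof (O.obj.obj Y) _ (extComp G Y) (g.unop ≫ a)) ((O.obj.map g) r)
      (show extComp G Y (g.unop ≫ a) from G.map (Over.homMk g.unop : Over.mk (g.unop ≫ a) ⟶ Over.mk a).op m))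
    rw [h1, extMap_of, extMap_of]
    refine Eq.trans ?_ h2
    refine congrArg (DirectSum.of (extComp G Y) (g.unop ≫ a)) ?_
    exact PresheafOfModules.map_smul G (Over.homMk g.unop : Over.mk (g.unop ≫ a) ⟶ Over.mk a).op r m

open scoped Classical in
lemma of_map_congr (G : PMod (O.over U)) {Y : Cᵒᵖ} {V : Over U} {a b : Y.unop ⟶ U}
    (h : a = b) (p : Over.mk a ⟶ V) (q : Over.mk b ⟶ V) (hpq : p.left = q.left) (m : G.obj (op V)) :
    DirectSum.of (extComp G Y) a (G.map p.op m) = DirectSum.of (extComp G Y) b (G.map q.op m) := by
  subst h
  obtain rfl : p = q := Over.OverMorphism.ext hpq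
  rfl

variable (O U) in
open scoped Classical in
/-- `extP G` on objects. -/
noncomputable def extPObj (G : PMod (O.over U)) : PMod O where
  obj X := ModuleCat.of (O.obj.obj X) (DirectSum (X.unop ⟶ U) (extComp G X))
  map {X Y} g := ModuleCat.ofHom
    (Y := (ModuleCat.restrictScalars (O.obj.map g).hom).obj
      (ModuleCat.of (O.obj.obj Y) (DirectSum (Y.unop ⟶ U) (extComp G Y))))
    { toFun := extMap G g
      map_add' := map_add _
      map_smul' := extMap_smul G g }
  map_id X := by
    refine ModuleCat.hom_ext (LinearMap.ext fun x => ?_)
    show extMap G (𝟙 X) x = x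
    induction x using DirectSum.induction_on with
    | zero => simp
    | add x y hx hy => simp [hx, hy]
    | of a m =>
      rw [extMap_of]
      refine (of_map_congr G (Category.id_comp a) _ (𝟙 (Over.mk a)) rfl m).trans ?_
      congr 1
      rw [op_id, G.map_id]
      rfl
  map_comp {X Y Z} f g := by
    refine ModuleCat.hom_ext (LinearMap.ext fun x => ?_)
    show extMap G (f ≫ g) x = extMap G g (extMap G f x)
    induction x using DirectSum.induction_on with
    | zero => simp
    | add x y hx hy => simp [hx, hy]
    | of a m =>
      rw [extMap_of, extMap_of, extMap_of, ← PresheafOfModules.map_comp_apply, ← op_comp]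
      exact of_map_congr G (by simp) _ _ (by simp) m

variable (O U) in
open scoped Classical in
/-- Extension by zero of presheaves of modules. -/
noncomputable def extP : PMod (O.over U) ⥤ PMod O where
  obj := extPObj O U
  map {G G'} φ :=
    { app := fun X => ModuleCat.ofHom (DirectSum.lmap
        (fun a : X.unop ⟶ U => ((φ.app (op (Over.mk a))).hom :
          extComp G X a →ₗ[O.obj.obj X] extComp G' X a)))
      naturality := fun {X Y} g => by
        ext x
        show DirectSum.lmap _ (extMap G g x) = extMap G' g (DirectSum.lmap _ x)
        induction x using DirectSum.induction_on with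
        | zero => simp
        | add x y hx hy => simp [hx, hy] <;> exact congrArg₂ (· + ·) hx hy
        | of a m =>
          erw [extMap_of, DirectSum.lmap_of, DirectSum.lmap_of, extMap_of]
          congr 1
          exact PresheafOfModules.naturality_apply φ _ m }
  map_id G := by
    refine PresheafOfModules.hom_ext fun X => ModuleCat.hom_ext (LinearMap.ext fun x => ?_)
    show DirectSum.lmap _ x = x
    induction x using DirectSum.induction_on with
    | zero => simp
    | add x y hx hy => exact (map_add _ _ _).trans (congrArg₂ (· + ·) hx hy)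
    | of a m => exact DirectSum.lmap_of _ _ _
  map_comp {G G' G''} φ ψ := by
    refine PresheafOfModules.hom_ext fun X => ModuleCat.hom_ext (LinearMap.ext fun x => ?_)
    show DirectSum.lmap _ x = DirectSum.lmap _ (DirectSum.lmap _ x)
    induction x using DirectSum.induction_on with
    | zero => simp
    | add x y hx hy =>
      refine (map_add _ _ _).trans ((congrArg₂ (· + ·) hx hy).trans ?_)
      rw [map_add, map_add]
    | of a m =>
      refine (DirectSum.lmap_of _ _ _).trans (Eq.symm ?_)
      exact (congrArg _ (DirectSum.lmap_of _ _ _)).trans (DirectSum.lmap_of _ _ _)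

open scoped Classical in
/-- The inclusion of a component. -/
noncomputable def extIn (G : PMod (O.over U)) (V : (Over U)ᵒᵖ) :
    G.obj V →ₗ[O.obj.obj (op V.unop.left)] ((extP O U).obj G).obj (op V.unop.left) :=
  DirectSum.lof (O.obj.obj (op V.unop.left)) (V.unop.left ⟶ U) (extComp G (op V.unop.left)) V.unop.hom

open scoped Classical in
/-- The hom bijection for `extP ⊣ restrP`. -/
noncomputable def extPHomEquiv (G : PMod (O.over U)) (M : PMod O) :
    ((extP O U).obj G ⟶ M) ≃ (G ⟶ (restrP O U).obj M) where
  toFun h :=
    { app := fun V => ModuleCat.ofHom (X := G.obj V) (Y := ((restrP O U).obj M).obj V)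
        { toFun := fun m => (h.app (op V.unop.left)).hom (extIn G V m)
          map_add' := fun m m' => (congrArg (h.app (op V.unop.left)).hom (map_add (extIn G V) m m')).trans
            (map_add (h.app (op V.unop.left)).hom _ _)
          map_smul' := fun (r : O.obj.obj (op V.unop.left)) m =>
            (congrArg (h.app (op V.unop.left)).hom (map_smul (extIn G V) r m)).trans
              (map_smul (h.app (op V.unop.left)).hom r _) }
      naturality := fun {V W} g => by
        ext m
        show (h.app (op W.unop.left)).hom (extIn G W (G.map g m)) =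
          M.map g.unop.left.op ((h.app (op V.unop.left)).hom (extIn G V m))
        refine Eq.trans ?_ (PresheafOfModules.naturality_apply h g.unop.left.op (extIn G V m))
        congr 1
        show DirectSum.of (extComp G (op W.unop.left)) W.unop.hom (G.map g m) =
          extMap G g.unop.left.op (DirectSum.of (extComp G (op V.unop.left)) V.unop.hom m)
        rw [extMap_of]
        exact of_map_congr G (Over.w g.unop).symm g.unop _ rfl m }
  invFun k :=
    { app := fun X => ModuleCat.ofHom (DirectSum.toModule (O.obj.obj X) (X.unop ⟶ U) (M.obj X)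
        (fun a => ((k.app (op (Over.mk a))).hom : extComp G X a →ₗ[O.obj.obj X] M.obj X)))
      naturality := fun {X Y} g => by
        ext x
        show DirectSum.toModule _ _ _ _ (extMap G g x) = M.map g (DirectSum.toModule _ _ _ _ x)
        induction x using DirectSum.induction_on with
        | zero => simp
        | add x y hx hy =>
          rw [map_add, map_add, map_add, hx, hy]
          exact (map_add (M.map g).hom _ _).symm
        | of a m =>
          rw [extMap_of]
          erw [DirectSum.toModule_lof, DirectSum.toModule_lof]
          exact PresheafOfModules.naturality_apply k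
            (Over.homMk g.unop : Over.mk (g.unop ≫ a) ⟶ Over.mk a).op m }
  left_inv h := by
    refine PresheafOfModules.hom_ext fun X => ModuleCat.hom_ext (LinearMap.ext fun x => ?_)
    show DirectSum.toModule _ _ _ _ x = (h.app X).hom x
    induction x using DirectSum.induction_on with
    | zero => exact (map_zero _).trans (map_zero (h.app X).hom).symm
    | add x y hx hy => exact (map_add _ _ _).trans ((congrArg₂ (· + ·) hx hy).trans (map_add (h.app X).hom _ _).symm)
    | of a m => erw [DirectSum.toModule_lof]; rfl
  right_inv k := by
    refine PresheafOfModules.hom_ext fun V => ModuleCat.hom_ext (LinearMap.ext fun m => ?_)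
    exact DirectSum.toModule_lof (O.obj.obj (op V.unop.left)) (N := M.obj (op V.unop.left))
      (φ := fun a => ((k.app (op (Over.mk a))).hom :
        extComp G (op V.unop.left) a →ₗ[O.obj.obj (op V.unop.left)] M.obj (op V.unop.left))) V.unop.hom m

variable (O U) in
/-- `extP ⊣ restrP`. -/
noncomputable def extPAdj : extP O U ⊣ restrP O U :=
  Adjunction.mkOfHomEquiv
    { homEquiv := extPHomEquiv
      homEquiv_naturality_left_symm := fun {G G' M} φ k => by
        classical
        refine PresheafOfModules.hom_ext fun X => ModuleCat.hom_ext (LinearMap.ext fun x => ?_)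
        show DirectSum.toModule _ _ _ _ x = DirectSum.toModule _ _ _ _ (DirectSum.lmap _ x)
        induction x using DirectSum.induction_on with
        | zero => simp
        | add x y hx hy =>
          refine (map_add _ _ _).trans ((congrArg₂ (· + ·) hx hy).trans ?_)
          rw [map_add, map_add]
        | of a m => erw [DirectSum.lmap_of, DirectSum.toModule_lof, DirectSum.toModule_lof]; rfl
      homEquiv_naturality_right := fun _ _ => rfl }


variable (O U)

/-- sheafification -/
noncomputable abbrev sh : PMod O ⥤ SheafOfModules.{u} O :=
  PresheafOfModules.sheafification.{u} (𝟙 O.obj)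

/-- inclusion -/
noncomputable abbrev incl : SheafOfModules.{u} O ⥤ PMod O :=
  SheafOfModules.forget O

/-- sheafification adjunction -/
noncomputable abbrev shAdj : sh O ⊣ incl O :=
  PresheafOfModules.sheafificationAdjunction (𝟙 O.obj)


variable {O} in
instance isLocallyInjective_unit (P : PMod O) :
    Presheaf.IsLocallyInjective J ((PresheafOfModules.toPresheaf _).map ((shAdj O).unit.app P)) := by
  rw [show (PresheafOfModules.toPresheaf _).map ((shAdj O).unit.app P) = CategoryTheory.toSheafify J P.presheaf from rfl]
  exact (J.W_toSheafify (A := AddCommGrpCat.{u}) P.presheaf).isLocallyInjective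

variable {O} in
/-- Sheafification inverts locally bijective morphisms of presheaves of modules. -/
theorem isIso_sh_map {M N : PMod O} (f : M ⟶ N)
    [Presheaf.IsLocallyInjective J ((PresheafOfModules.toPresheaf _).map f)]
    [Presheaf.IsLocallySurjective J ((PresheafOfModules.toPresheaf _).map f)] :
    IsIso ((sh O).map f) := by
  have : IsIso ((presheafToSheaf J AddCommGrpCat.{u}).map ((PresheafOfModules.toPresheaf _).map f)) :=
    (J.W_iff _).mp ((J.W_iff_isLocallyBijective _).mpr ⟨inferInstance, inferInstance⟩)
  have : IsIso ((SheafOfModules.toSheaf.{u} (O)).map ((sh O).map f)) := this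
  exact isIso_of_reflects_iso _ (SheafOfModules.toSheaf.{u} (O))

/-- extension by zero -/
noncomputable abbrev extZero : SheafOfModules.{u} (O.over U) ⥤ SheafOfModules.{u} O :=
  incl (O.over U) ⋙ extP O U ⋙ sh O

/-- the adjunction -/
noncomputable def extZeroAdj : extZero O U ⊣ SheafOfModules.overFunctor.{u} O U :=
  ((extPAdj O U).comp (shAdj O)).restrictFullyFaithful
    (SheafOfModules.fullyFaithfulForget _) (Functor.FullyFaithful.id _)
    (Iso.refl _ : incl (O.over U) ⋙ extP O U ⋙ sh O ≅ (incl (O.over U) ⋙ extP O U ⋙ sh O) ⋙ 𝟭 _)
    (Iso.refl _ : (𝟭 _) ⋙ incl O ⋙ restrP O U ≅ SheafOfModules.overFunctor.{u} O U ⋙ incl (O.over U))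

instance extP_preservesMonomorphisms : (extP O U).PreservesMonomorphisms where
  preserves {G G'} φ _ := by
    classical
    apply PresheafOfModules.mono_of_injective
    intro X
    have hinj : ∀ a : X.unop ⟶ U, Function.Injective (φ.app (op (Over.mk a))).hom := fun a =>
      PresheafOfModules.injective_of_mono φ (op (Over.mk a))
    let φa : ∀ a : X.unop ⟶ U, extComp G X a →ₗ[O.obj.obj X] extComp G' X a :=
      fun a => (φ.app (op (Over.mk a))).hom
    show Function.Injective (DirectSum.lmap φa)
    exact (DirectSum.lmap_injective φa).mpr hinj

instance sh_preservesFiniteLimits : PreservesFiniteLimits (sh O) :=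
  inferInstanceAs (PreservesFiniteLimits (PresheafOfModules.sheafification.{u} (𝟙 (O).obj)))

instance incl_preservesLimits : PreservesLimitsOfSize.{u, u} (incl O) :=
  (shAdj O).rightAdjoint_preservesLimits

instance incl_preservesMonomorphisms : (incl O).PreservesMonomorphisms :=
  Functor.preservesMonomorphisms_of_adjunction (shAdj O)

instance sh_preservesMonomorphisms : (sh O).PreservesMonomorphisms :=
  preservesMonomorphisms_of_preservesLimitsOfShape _

instance extZero_preservesMonomorphisms : (extZero O U).PreservesMonomorphisms :=
  inferInstanceAs ((incl (O.over U) ⋙ extP O U ⋙ sh O).PreservesMonomorphisms)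

instance extZero_additive : (extZero O U).Additive :=
  haveI : (extZero O U).IsLeftAdjoint := (extZeroAdj O U).isLeftAdjoint
  haveI : (extZero O U).PreservesZeroMorphisms := Functor.preservesZeroMorphisms_of_preserves_initial_object
  haveI := (extZeroAdj O U).leftAdjoint_preservesColimits
  haveI := preservesBinaryBiproducts_of_preservesBinaryCoproducts (extZero O U)
  Functor.additive_of_preservesBinaryBiproducts _

/-- A right exact additive functor between abelian categories that preserves monos is left exact. -/
lemma preservesFiniteLimits_of_preservesMono {A B : Type*} [Category* A] [Category* B] [Abelian A]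
    [Abelian B] (F : A ⥤ B) [hF : PreservesFiniteColimits F] [F.PreservesMonomorphisms] :
    PreservesFiniteLimits F := by
  have := preservesBinaryBiproducts_of_preservesBinaryCoproducts F
  have : F.Additive := Functor.additive_of_preservesBinaryBiproducts F
  have h : ∀ S : ShortComplex A, S.ShortExact → (S.map F).Exact ∧ Epi (F.map S.g) :=
    ((Functor.preservesFiniteColimits_tfae F).out 3 0).mp hF
  refine ((Functor.preservesFiniteLimits_tfae F).out 0 3).mp
    (show ∀ S : ShortComplex A, S.ShortExact → (S.map F).Exact ∧ Mono (F.map S.f) from
      fun S hS => ⟨(h S hS).1, ?_⟩)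
  haveI := hS.mono_f
  exact F.map_mono _

theorem extZero_preservesFiniteLimits : PreservesFiniteLimits (extZero O U) := by
  haveI := (extZeroAdj O U).leftAdjoint_preservesColimits
  exact preservesFiniteLimits_of_preservesMono _

instance incl_full : (incl O).Full := (SheafOfModules.fullyFaithfulForget (O)).full

instance incl_faithful : (incl O).Faithful := (SheafOfModules.fullyFaithfulForget (O)).faithful

theorem extZero_faithful : (extZero O U).Faithful := by
  classical
  refine ⟨fun {G G'} a b h => (incl (O.over U)).map_injective ?_⟩
  refine PresheafOfModules.hom_ext fun V => ModuleCat.hom_ext (LinearMap.ext fun m => ?_)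
  let a' := (incl (O.over U)).map a
  let b' := (incl (O.over U)).map b
  have hunit : (extP O U).map a' ≫ (shAdj O).unit.app _ = (extP O U).map b' ≫ (shAdj O).unit.app _ := by
    refine ((shAdj O).unit.naturality _).trans (Eq.trans ?_ ((shAdj O).unit.naturality _).symm)
    exact congrArg (fun t => (shAdj O).unit.app _ ≫ (incl O).map t) h
  have h' := ConcreteCategory.congr_hom
    (congrArg (fun t => PresheafOfModules.Hom.app t (op V.unop.left)) hunit) (extIn ((incl (O.over U)).obj G) V m)
  have hT := Presheaf.equalizerSieve_mem J
    ((PresheafOfModules.toPresheaf _).map ((shAdj O).unit.app ((extP O U).obj ((incl (O.over U)).obj G'))))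
    (X := op V.unop.left) (((extP O U).map a').app (op V.unop.left) (extIn ((incl (O.over U)).obj G) V m))
    (((extP O U).map b').app (op V.unop.left) (extIn ((incl (O.over U)).obj G) V m)) h'
  refine G'.isSheaf.isSeparated V.unop _
    (J.overEquiv_symm_mem_over V.unop _ hT) (a'.app V m) (b'.app V m) fun W q hq => ?_
  rw [Sieve.overEquiv_symm_iff] at hq
  have ea : ((extP O U).map a').app (op V.unop.left) (extIn ((incl (O.over U)).obj G) V m) = extIn ((incl (O.over U)).obj G') V (a'.app V m) :=
    DirectSum.lmap_of _ _ _
  have eb : ((extP O U).map b').app (op V.unop.left) (extIn ((incl (O.over U)).obj G) V m) = extIn ((incl (O.over U)).obj G') V (b'.app V m) :=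
    DirectSum.lmap_of _ _ _
  rw [ea, eb] at hq
  have hq' : extMap ((incl (O.over U)).obj G') q.left.op
      (DirectSum.of (extComp ((incl (O.over U)).obj G') (op V.unop.left)) V.unop.hom (a'.app V m)) =
    extMap ((incl (O.over U)).obj G') q.left.op
      (DirectSum.of (extComp ((incl (O.over U)).obj G') (op V.unop.left)) V.unop.hom (b'.app V m)) := hq
  rw [extMap_of, extMap_of] at hq'
  have h2 := DirectSum.of_injective _ hq'
  let i : W ⟶ Over.mk (q.left ≫ V.unop.hom) :=
    Over.homMk (𝟙 W.left) ((Category.id_comp _).trans (Over.w q))
  let r : Over.mk (q.left ≫ V.unop.hom) ⟶ V.unop := Over.homMk q.left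
  have hqr : q = i ≫ r := Over.OverMorphism.ext (Category.id_comp _).symm
  show ((incl (O.over U)).obj G').map q.op _ = ((incl (O.over U)).obj G').map q.op _
  rw [hqr, op_comp, PresheafOfModules.map_comp_apply, PresheafOfModules.map_comp_apply]
  exact congrArg (((incl (O.over U)).obj G').map i.op) h2


end Groth.Agent.SiteBase.Ring
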