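import Groth.Agent.SiteBase.SetExact
import Mathlib.CategoryTheory.Subobject.Limits

/-! # Subsheaves of quotient sheaves -/

universe w v₁ u₁

open CategoryTheory Limits Opposite

namespace Groth.Agent.SiteBase

variable {C : Type u₁} [Category.{v₁} C] {J : GrothendieckTopology C} [HasSheafify J (Type w)]

lemma sheaf_epi_pullback_fst {X Y Z : Sheaf J (Type w)} (t : Z ⟶ Y) (f : X ⟶ Y) [Epi f] :
    Epi (pullback.fst t f) := by
  have : Sheaf.IsLocallySurjective f := (Sheaf.isLocallySurjective_iff_epi f).mpr inferInstance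
  have := sheaf_isLocallySurjective_snd_of_isPullback (IsPullback.of_hasPullback t f).flip
  exact (Sheaf.isLocallySurjective_iff_epi _).mp inferInstance

/-- A map out of a quotient is a monomorphism if the relation is the kernel pair of the composite. -/
lemma sheaf_mono_of_kernelPair {K Y Q Z : Sheaf J (Type w)} {a b : K ⟶ Y} (q : Y ⟶ Q) [Epi q]
    (g : Q ⟶ Z) (hq : a ≫ q = b ≫ q) (h : IsKernelPair (q ≫ g) a b) : Mono g := by
  refine ⟨fun {T} α β hαβ => ?_⟩
  haveI := sheaf_epi_pullback_fst α q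
  haveI := sheaf_epi_pullback_fst (pullback.fst α q ≫ β) q
  rw [← cancel_epi (pullback.fst α q), ← cancel_epi (pullback.fst (pullback.fst α q ≫ β) q)]
  let x := pullback.fst (pullback.fst α q ≫ β) q ≫ pullback.snd α q
  let y := pullback.snd (pullback.fst α q ≫ β) q
  have hx : x ≫ q = pullback.fst (pullback.fst α q ≫ β) q ≫ pullback.fst α q ≫ α := by
    simp [x, pullback.condition]
  have hy : y ≫ q = pullback.fst (pullback.fst α q ≫ β) q ≫ pullback.fst α q ≫ β := by
    simp [y, ← pullback.condition]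
  have hxy : x ≫ q ≫ g = y ≫ q ≫ g := by simp [reassoc_of% hx, reassoc_of% hy, hαβ]
  rw [← hx, ← hy]
  obtain ⟨r, h1, h2⟩ : ∃ r, r ≫ a = x ∧ r ≫ b = y :=
    ⟨h.lift x y hxy, h.lift_fst _ _ _, h.lift_snd _ _ _⟩
  rw [← h1, ← h2]
  simp [hq]

/-- The induced relation on a subobject is the kernel pair of the restricted quotient map. -/
lemma kernelPair_restrict {D : Type*} [Category D] [HasPullbacks D] {R X Y B : D} {p₁ p₂ : R ⟶ X}
    {π : X ⟶ B} (h : IsKernelPair π p₁ p₂) (ι : Y ⟶ X) :
    IsKernelPair (ι ≫ π) (pullback.fst (pullback.fst p₁ ι ≫ p₂) ι ≫ pullback.snd p₁ ι)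
      (pullback.snd (pullback.fst p₁ ι ≫ p₂) ι) :=
  (IsPullback.of_hasPullback (pullback.fst p₁ ι ≫ p₂) ι).paste_horiz
    ((IsPullback.of_hasPullback p₁ ι).paste_horiz h.flip).flip

lemma pullback_factors_iff {D : Type*} [Category D] [HasPullbacks D] {X Y T : D} (f : X ⟶ Y)
    (P : Subobject Y) (t : T ⟶ X) :
    ((Subobject.pullback f).obj P).Factors t ↔ P.Factors (t ≫ f) := by
  rw [Subobject.factors_iff, Subobject.factors_iff]
  have h := Subobject.isPullback f P
  constructor
  · rintro ⟨u, rfl⟩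
    refine ⟨u ≫ Subobject.pullbackπ f P, ?_⟩
    simp [h.w]
  · rintro ⟨u, hu⟩
    exact ⟨h.lift u t hu, h.lift_snd _ _ _⟩

lemma subobject_eq_of_factors {D : Type*} [Category D] {X : D} {P Q : Subobject X}
    (h : ∀ ⦃T : D⦄ (t : T ⟶ X), P.Factors t ↔ Q.Factors t) : P = Q := by
  refine le_antisymm ?_ ?_
  · exact Subobject.le_of_comm (Q.factorThru P.arrow ((h _).1 (Subobject.factors_self _))) (by simp)
  · exact Subobject.le_of_comm (P.factorThru Q.arrow ((h _).2 (Subobject.factors_self _))) (by simp)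

lemma factors_of_epi {D : Type*} [Category D] [IsRegularEpiCategory D] {X T T' : D} (P : Subobject X)
    (q : T' ⟶ T) [Epi q] (t : T ⟶ X) (h : P.Factors (q ≫ t)) : P.Factors t := by
  rw [Subobject.factors_iff] at h ⊢
  obtain ⟨u, hu⟩ : ∃ u : T' ⟶ (P : D), u ≫ P.arrow = q ≫ t := h
  have sq : CommSq u q P.arrow t := ⟨hu⟩
  haveI : StrongEpi q := strongEpi_of_epi q
  have : StrongEpi q := strongEpi_of_epi q
  haveI : HasLiftingProperty q P.arrow := StrongEpi.llp _
  exact ⟨sq.lift, sq.fac_right⟩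

lemma subobject_pullback_injective {X B : Sheaf J (Type w)} (π : X ⟶ B) [Epi π] :
    Function.Injective (Subobject.pullback π).obj := by
  refine fun P Q h => subobject_eq_of_factors fun T t => ?_
  haveI := sheaf_epi_pullback_fst t π
  have key : ∀ (Z : Subobject B), Z.Factors t ↔
      ((Subobject.pullback π).obj Z).Factors (pullback.snd t π) := by
    intro Z
    rw [pullback_factors_iff, ← pullback.condition]
    exact ⟨fun h => Subobject.factors_of_factors_right _ h, fun h => factors_of_epi Z _ t h⟩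
  rw [key P, key Q]
  exact Iff.of_eq (by rw [h])

lemma exists_pullback_eq {R X B : Sheaf J (Type w)} {p₁ p₂ : R ⟶ X} {π : X ⟶ B}
    (hk : IsKernelPair π p₁ p₂) (Y : Subobject X)
    (hY : (Subobject.pullback p₁).obj Y = (Subobject.pullback p₂).obj Y) :
    ∃ Z : Subobject B, (Subobject.pullback π).obj Z = Y := by
  have hK := kernelPair_restrict hk Y.arrow
  let g := coequalizer.desc (Y.arrow ≫ π) hK.w
  haveI : Mono g := sheaf_mono_of_kernelPair (coequalizer.π _ _) g
    (coequalizer.condition _ _) (by rw [coequalizer.π_desc]; exact hK)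
  refine ⟨Subobject.mk g, subobject_eq_of_factors fun T t => ?_⟩
  rw [pullback_factors_iff, Subobject.mk_factors_iff]
  constructor
  · intro ht
    obtain ⟨u, hu⟩ : ∃ u, u ≫ g = t ≫ π := ht
    haveI := sheaf_epi_pullback_fst u (coequalizer.π _ _ :
      (Y : Sheaf J (Type w)) ⟶ coequalizer _ _)
    refine factors_of_epi Y (pullback.fst u (coequalizer.π _ _)) t ?_
    let y := pullback.snd u (coequalizer.π _ _ :
      (Y : Sheaf J (Type w)) ⟶ coequalizer _ _) ≫ Y.arrow
    let r := hk.lift y (pullback.fst u (coequalizer.π _ _) ≫ t) (by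
      simp only [y, Category.assoc]
      rw [← hu, pullback.condition_assoc, coequalizer.π_desc])
    have h1 : Y.Factors (r ≫ p₁) := by
      rw [hk.lift_fst]
      exact Subobject.factors_comp_arrow _
    rw [← pullback_factors_iff, hY, pullback_factors_iff, hk.lift_snd] at h1
    exact h1
  · intro ht
    refine ⟨Y.factorThru t ht ≫ coequalizer.π _ _, ?_⟩
    show (Y.factorThru t ht ≫ coequalizer.π _ _) ≫ g = t ≫ π
    simp [g]

end Groth.Agent.SiteBase
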