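import Mathlib.CategoryTheory.Sites.LeftExact
import Mathlib.CategoryTheory.Sites.Sheafification
import Mathlib.CategoryTheory.Sites.IsSheafFor
import Mathlib.CategoryTheory.Sites.Types
import Mathlib.CategoryTheory.Limits.Shapes.Products

/-! # When is a sheafified cofan of representables a coproduct? -/

universe u v w

open CategoryTheory Limits Opposite

namespace Groth.Agent.SiteBase

variable {C : Type u} [SmallCategory C] (J : GrothendieckTopology C) {X : C} {ι : Type u}
  (Y : ι → C) (s : ∀ i, Y i ⟶ X)

/-- A sheafified cofan of representables is a coproduct iff every sheaf turns it into a product. -/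
lemma nonempty_isColimit_cofan_sheafify_iff :
    Nonempty (IsColimit (Cofan.mk ((presheafToSheaf J (Type u)).obj (yoneda.obj X))
      (fun i => (presheafToSheaf J (Type u)).map (yoneda.map (s i))))) ↔
    ∀ G : Sheaf J (Type u), Function.Bijective
      (fun (x : G.obj.obj (op X)) (i : ι) => G.obj.map (s i).op x) := by
  let e : ∀ (Z : C) (G : Sheaf J (Type u)),
      ((presheafToSheaf J (Type u)).obj (yoneda.obj Z) ⟶ G) ≃ G.obj.obj (op Z) :=
    fun Z G => ((sheafificationAdjunction J (Type u)).homEquiv _ _).trans yonedaEquiv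
  have he : ∀ (G : Sheaf J (Type u)) (i : ι) a,
      e (Y i) G ((presheafToSheaf J (Type u)).map (yoneda.map (s i)) ≫ a) =
        G.obj.map (s i).op (e X G a) := by
    intro G i a
    simp only [e, Equiv.trans_apply, Adjunction.homEquiv_naturality_left]
    exact yonedaEquiv_naturality _ (s i) |>.symm
  constructor
  · rintro ⟨h⟩ G
    refine ⟨fun x y hxy => ?_, fun y => ?_⟩
    · obtain ⟨a, rfl⟩ := (e X G).surjective x
      obtain ⟨b, rfl⟩ := (e X G).surjective y
      refine congrArg _ (h.hom_ext fun ⟨i⟩ => ?_)
      apply (e (Y i) G).injective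
      change e (Y i) G (_ ≫ a) = e (Y i) G (_ ≫ b)
      simpa [he] using congr_fun hxy i
    · refine ⟨e X G (h.desc (Cofan.mk G fun i => (e (Y i) G).symm (y i))), funext fun i => ?_⟩
      change G.obj.map (s i).op _ = _
      rw [← he]
      exact (congrArg (e (Y i) G) (h.fac _ ⟨i⟩)).trans ((e (Y i) G).apply_symm_apply (y i))
  · intro h
    choose d hd using fun t : Cofan (fun i => (presheafToSheaf J (Type u)).obj (yoneda.obj (Y i))) =>
      (h t.pt).2 (fun i => e (Y i) t.pt (t.inj i))
    refine ⟨mkCofanColimit _ (fun t => (e X t.pt).symm (d t)) (fun t i => ?_) (fun t m hm => ?_)⟩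
    · apply (e (Y i) t.pt).injective
      refine (he t.pt i _).trans ?_
      rw [Equiv.apply_symm_apply]
      exact congr_fun (hd t) i
    · rw [Equiv.eq_symm_apply]
      refine (h t.pt).1 ((funext fun i => ?_ : _).trans (hd t).symm)
      exact (he t.pt i m).symm.trans (congrArg _ (hm i))

end Groth.Agent.SiteBase
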