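import Groth.Agent.SiteBase.ModFlat
import Mathlib.Algebra.Category.ModuleCat.Presheaf.Monoidal
import Mathlib.Algebra.Category.ModuleCat.Presheaf.Abelian
import Mathlib.Algebra.Category.ModuleCat.Presheaf.EpiMono
import Mathlib.Algebra.Category.ModuleCat.Presheaf.Free
import Mathlib.CategoryTheory.Abelian.Exact
import Mathlib.CategoryTheory.Abelian.Refinements
import Mathlib.RingTheory.Flat.Basic

/-! # Flat presheaves of modules -/

universe u

open CategoryTheory MonoidalCategory Limits Opposite

namespace Groth.Agent.SiteBase.PreFlat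

/-- For a bifunctor `T`, right exact in each variable: if `T(-, S.X₃)` keeps `ker π ⟶ P` mono and
`T(P, S.f)` is mono, then `T(G, S.f)` is mono for `π : P ↠ G`. -/
lemma mono_map_of_flat_cover {A : Type*} [Category* A] [Abelian A] (T : A ⥤ A ⥤ A)
    [∀ G, (T.obj G).Additive] [∀ G, PreservesFiniteColimits (T.obj G)]
    [∀ X, (T.flip.obj X).Additive] [∀ X, PreservesFiniteColimits (T.flip.obj X)]
    {S : ShortComplex A} (hS : S.ShortExact) {P G : A} (π : P ⟶ G) [Epi π]
    [Mono ((T.map (kernel.ι π)).app S.X₃)] [Mono ((T.obj P).map S.f)] :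
    Mono ((T.obj G).map S.f) := by
  have rex : ∀ (F : A ⥤ A) [F.Additive] [PreservesFiniteColimits F] (S : ShortComplex A),
      S.ShortExact → (S.map F).Exact ∧ Epi (F.map S.g) := fun F _ _ =>
    ((Functor.preservesFiniteColimits_tfae F).out 3 0).mp ‹PreservesFiniteColimits F›
  let U : ShortComplex A := ShortComplex.mk (kernel.ι π) π (kernel.condition π)
  have hU : U.ShortExact :=
    { exact := U.exact_of_f_is_kernel (kernelIsKernel π)
      mono_f := inferInstanceAs (Mono (kernel.ι π))
      epi_g := inferInstanceAs (Epi π) }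
  haveI : Epi ((T.flip.obj S.X₁).map π) := (rex (T.flip.obj S.X₁) U hU).2
  refine Preadditive.mono_of_cancel_zero _ fun {B} x hx => ?_
  obtain ⟨B₁, p₁, _, y, hy⟩ :
      ∃ (B₁ : A) (p₁ : B₁ ⟶ B) (_ : Epi p₁) (y : B₁ ⟶ (T.obj P).obj S.X₁),
        p₁ ≫ x = y ≫ (T.map π).app S.X₁ :=
    surjective_up_to_refinements_of_epi ((T.flip.obj S.X₁).map π) x
  have hy' : (y ≫ (T.obj P).map S.f) ≫ (T.map π).app S.X₂ = 0 := by
    rw [Category.assoc, NatTrans.naturality, ← Category.assoc, ← hy, Category.assoc, hx, comp_zero]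
  obtain ⟨B₂, p₂, _, z, hz⟩ :
      ∃ (B₂ : A) (p₂ : B₂ ⟶ B₁) (_ : Epi p₂) (z : B₂ ⟶ (T.obj (kernel π)).obj S.X₂),
        p₂ ≫ y ≫ (T.obj P).map S.f = z ≫ (T.map (kernel.ι π)).app S.X₂ :=
    (rex (T.flip.obj S.X₂) U hU).1.exact_up_to_refinements _ hy'
  have hz' : z ≫ (T.obj (kernel π)).map S.g = 0 := by
    rw [← cancel_mono ((T.map (kernel.ι π)).app S.X₃), zero_comp, Category.assoc,
      NatTrans.naturality, ← Category.assoc, ← hz]
    simp [← Functor.map_comp]
  obtain ⟨B₃, p₃, _, w, hw⟩ :
      ∃ (B₃ : A) (p₃ : B₃ ⟶ B₂) (_ : Epi p₃) (w : B₃ ⟶ (T.obj (kernel π)).obj S.X₁),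
        p₃ ≫ z = w ≫ (T.obj (kernel π)).map S.f :=
    (rex (T.obj (kernel π)) S hS).1.exact_up_to_refinements _ hz'
  have key : p₃ ≫ p₂ ≫ y = w ≫ (T.map (kernel.ι π)).app S.X₁ := by
    rw [← cancel_mono ((T.obj P).map S.f), Category.assoc, Category.assoc,
      Category.assoc, hz, reassoc_of% hw, NatTrans.naturality]
  have : (p₃ ≫ p₂ ≫ p₁) ≫ x = 0 := by
    rw [Category.assoc, Category.assoc, hy, reassoc_of% key, ← NatTrans.comp_app, ← Functor.map_comp,
      kernel.condition]
    have h0 : (T.map (0 : kernel π ⟶ G)).app S.X₁ = 0 := (T.flip.obj S.X₁).map_zero _ _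
    rw [h0, comp_zero]
  exact zero_of_epi_comp _ this

variable {C : Type u} [SmallCategory C] (R : Cᵒᵖ ⥤ CommRingCat.{u})

/-- presheaves of modules over a presheaf of commutative rings -/
abbrev Q := PresheafOfModules.{u} (R ⋙ forget₂ CommRingCat.{u} RingCat.{u})

variable {R}

instance tensorRight_preservesColimitsOfSize (G : Q R) :
    PreservesColimitsOfSize.{u, u} (tensorRight G) := by
  refine ⟨fun {K} _ => ⟨fun {F} => ⟨fun {c} hc => ⟨PresheafOfModules.evaluationJointlyReflectsColimits _ _ fun U => ?_⟩⟩⟩⟩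
  exact isColimitOfPreserves (tensorRight (C := ModuleCat (R.obj U)) (G.obj U))
    (isColimitOfPreserves (PresheafOfModules.evaluation _ U) hc)

instance tensorLeft_preservesColimitsOfSize (G : Q R) :
    PreservesColimitsOfSize.{u, u} (tensorLeft G) :=
  preservesColimits_of_natIso (BraidedCategory.tensorLeftIsoTensorRight G).symm

instance tensorRight_preservesFiniteColimits (G : Q R) : PreservesFiniteColimits (tensorRight G) :=
  PreservesColimitsOfSize.preservesFiniteColimits _

instance tensorLeft_preservesFiniteColimits (G : Q R) : PreservesFiniteColimits (tensorLeft G) :=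
  PreservesColimitsOfSize.preservesFiniteColimits _

instance tensorRight_additive (G : Q R) : (tensorRight G).Additive where
  map_add {A B f g} := PresheafOfModules.hom_ext fun X =>
    ModuleCat.MonoidalCategory.tensor_ext fun a b => TensorProduct.add_tmul (R := R.obj X) _ _ _

instance tensorLeft_additive (G : Q R) : (tensorLeft G).Additive :=
  Functor.additive_of_iso (BraidedCategory.tensorLeftIsoTensorRight G).symm

theorem preservesMono_of_flat (F : Q R) (hF : ∀ X : Cᵒᵖ, Module.Flat (R.obj X) (F.obj X)) :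
    (tensorRight F).PreservesMonomorphisms where
  preserves {A B} f _ := PresheafOfModules.mono_of_injective fun X => by
    haveI : Module.Flat (R.obj X) (F.obj X) := hF X
    exact Module.Flat.rTensor_preserves_injective_linearMap (R := R.obj X) (M := F.obj X)
      (f.app X).hom (PresheafOfModules.injective_of_mono f X)

theorem exact_of_flat (F : Q R) (hF : ∀ X : Cᵒᵖ, Module.Flat (R.obj X) (F.obj X)) :
    PreservesFiniteLimits (tensorRight F) ∧ PreservesFiniteColimits (tensorRight F) := by
  haveI := preservesMono_of_flat F hF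
  refine ⟨?_, inferInstance⟩
  have h : ∀ S : ShortComplex (Q R), S.ShortExact →
      (S.map (tensorRight F)).Exact ∧ Epi ((tensorRight F).map S.g) :=
    ((Functor.preservesFiniteColimits_tfae _).out 3 0).mp (tensorRight_preservesFiniteColimits F)
  refine ((Functor.preservesFiniteLimits_tfae (tensorRight F)).out 0 3).mp
    (show ∀ S : ShortComplex (Q R), S.ShortExact →
        (S.map (tensorRight F)).Exact ∧ Mono ((tensorRight F).map S.f) from
      fun S hS => ⟨(h S hS).1, ?_⟩)
  haveI := hS.mono_f
  exact (tensorRight F).map_mono _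

theorem shortExact_tensor (S : ShortComplex (Q R)) (hS : S.ShortExact)
    (hF : PreservesFiniteLimits (tensorRight S.X₃)) (G : Q R) :
    (S.map (tensorRight G)).ShortExact := by
  let adj := PresheafOfModules.freeAdjunction (R ⋙ forget₂ CommRingCat.{u} RingCat.{u})
  let π := adj.counit.app G
  haveI : Epi π := by
    refine PresheafOfModules.epi_of_surjective fun X m => ⟨ModuleCat.freeMk m, ?_⟩
    exact ConcreteCategory.congr_hom (congr_app (adj.right_triangle_components G) X) m
  haveI : Mono (((curriedTensor (Q R)).map (kernel.ι π)).app S.X₃) :=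
    haveI := preservesMonomorphisms_of_preservesLimitsOfShape (tensorRight S.X₃)
    (tensorRight S.X₃).map_mono (kernel.ι π)
  let P : Q R := (PresheafOfModules.free (R ⋙ forget₂ CommRingCat.{u} RingCat.{u})).obj
    (((PresheafOfModules.toPresheaf _) ⋙ (Functor.whiskeringRight _ _ _).obj (forget Ab)).obj G)
  haveI := preservesMono_of_flat P (fun X => inferInstanceAs (Module.Flat (R.obj X) (_ →₀ R.obj X)))
  haveI : (tensorLeft P).PreservesMonomorphisms :=
    Functor.PreservesMonomorphisms.of_iso (BraidedCategory.tensorLeftIsoTensorRight P).symm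
  haveI := hS.mono_f
  have hP : Mono (((curriedTensor (Q R)).obj P).map S.f) := (tensorLeft P).map_mono S.f
  haveI : Mono ((tensorLeft G).map S.f) := @mono_map_of_flat_cover (Q R) _ _ (curriedTensor (Q R))
    (fun G => tensorLeft_additive G) (fun G => tensorLeft_preservesFiniteColimits G)
    (fun G => tensorRight_additive G) (fun G => tensorRight_preservesFiniteColimits G) S hS _ _ π
    inferInstance inferInstance hP
  have h : ∀ S : ShortComplex (Q R), S.ShortExact →
      (S.map (tensorLeft G)).Exact ∧ Epi ((tensorLeft G).map S.g) :=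
    ((Functor.preservesFiniteColimits_tfae _).out 3 0).mp (tensorLeft_preservesFiniteColimits G)
  have h1 : (S.map (tensorLeft G)).ShortExact :=
    { exact := (h S hS).1, mono_f := this, epi_g := (h S hS).2 }
  exact ShortComplex.shortExact_of_iso (S.mapNatIso (BraidedCategory.tensorLeftIsoTensorRight G)) h1

end Groth.Agent.SiteBase.PreFlat
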