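import Groth.Agent.SiteBase.ExtZero
import Groth.Prelude.Def_ModSite2
import Mathlib.CategoryTheory.Sites.Point.Over
import Mathlib.Algebra.Category.Grp.FilteredColimits
import Mathlib.Algebra.Category.Grp.Colimits

/-! # Stalks of extension by zero -/

set_option autoImplicit false
set_option linter.all false
set_option backward.isDefEq.respectTransparency false
set_option backward.defeqAttrib.useBackward true

noncomputable section

universe u

open CategoryTheory Limits Opposite

namespace Groth.Agent.SiteBase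

variable {C : Type u} [SmallCategory C] {J : GrothendieckTopology C} (O : Sheaf J CommRingCat.{u}) (U : C)
  (p : GrothendieckTopology.Point.{u} J)

theorem nonempty_stalk_extZero (G : ModSite.Mod (O.over U)) :
    Nonempty (ModSite.stalkAb p ((ModSite.extZero O U).obj G) ≅ ∐ fun x : p.fiber.obj U => ModSite.stalkAb (p.over x) G) := by
  classical
  let G' := (incl (O.over U)).obj G
  let E := (extP O U).obj G'
  let S := fun x : p.fiber.obj U => ModSite.stalkAb (p.over x) G
  let g : ∀ (x : p.fiber.obj U) (V : Over U) (y : (p.over x).fiber.obj V),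
      G'.presheaf.obj (op V) ⟶ S x := fun x V y => (p.over x).toPresheafFiber V y (ModSite.toAb G).obj
  -- forward
  let fwd₀ : ∀ (X : C) (y : p.fiber.obj X) (a : X ⟶ U), G'.presheaf.obj (op (Over.mk a)) ⟶ ∐ S := fun X y a =>
    g (p.fiber.map a y) (Over.mk a) ⟨y, rfl⟩ ≫ Sigma.ι S (p.fiber.map a y)
  let fwd₁ : ∀ (X : C) (y : p.fiber.obj X), E.presheaf.obj (op X) ⟶ ∐ S := fun X y =>
    AddCommGrpCat.ofHom (DirectSum.toAddMonoid (β := extComp G' (op X)) (fun a : X ⟶ U => (fwd₀ X y a).hom) :
      DirectSum (X ⟶ U) (extComp G' (op X)) →+ (∐ S : AddCommGrpCat.{u}))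
  have hg : ∀ (x x' : p.fiber.obj U) (V : Over U) (y : (p.over x).fiber.obj V) (y' : (p.over x').fiber.obj V),
      x = x' → y.1 = y'.1 → g x V y ≫ Sigma.ι S x = g x' V y' ≫ Sigma.ι S x' := by
    intro x x' V y y' hx hy
    subst hx
    rw [show y = y' from Subtype.ext hy]
  have hfwd : ∀ {X Y : C} (h : X ⟶ Y) (y : p.fiber.obj X), E.presheaf.map h.op ≫ fwd₁ X y = fwd₁ Y (p.fiber.map h y) := by
    intro X Y h y
    apply AddCommGrpCat.hom_ext
    apply DirectSum.addHom_ext
    intro a m
    show DirectSum.toAddMonoid (fun b : X ⟶ U => (fwd₀ X y b).hom) (extMap G' h.op (DirectSum.of (extComp G' (op Y)) a m)) =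
      DirectSum.toAddMonoid (fun b : Y ⟶ U => (fwd₀ Y (p.fiber.map h y) b).hom) (DirectSum.of (extComp G' (op Y)) a m)
    rw [extMap_of]
    erw [DirectSum.toAddMonoid_of, DirectSum.toAddMonoid_of]
    let q : Over.mk (h ≫ a) ⟶ Over.mk a := Over.homMk h
    let x := p.fiber.map (h ≫ a) y
    have h1 := ConcreteCategory.congr_hom ((p.over x).toPresheafFiber_w q ⟨y, rfl⟩ (ModSite.toAb G).obj) m
    refine (congrArg (Sigma.ι S x) h1).trans ?_
    exact ConcreteCategory.congr_hom (hg x (p.fiber.map a (p.fiber.map h y)) (Over.mk a) ((p.over x).fiber.map q ⟨y, rfl⟩) ⟨p.fiber.map h y, rfl⟩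
      (by simp [x]) rfl) m
  let F : (p.presheafFiber (A := AddCommGrpCat.{u})).obj E.presheaf ⟶ ∐ S := p.presheafFiberDesc fwd₁ (fun _ _ h y => hfwd h y)
  -- backward
  let bwd₀ : ∀ (x : p.fiber.obj U) (V : Over U) (y : (p.over x).fiber.obj V),
      G'.presheaf.obj (op V) ⟶ (p.presheafFiber (A := AddCommGrpCat.{u})).obj E.presheaf := fun x V y =>
    AddCommGrpCat.ofHom (Y := E.presheaf.obj (op V.left)) (DirectSum.of (extComp G' (op V.left)) V.hom) ≫
      p.toPresheafFiber V.left y.1 E.presheaf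
  have hbwd : ∀ (x : p.fiber.obj U) (V W : Over U) (h : V ⟶ W) (y : (p.over x).fiber.obj V),
      (ModSite.toAb G).obj.map h.op ≫ bwd₀ x V y = bwd₀ x W ((p.over x).fiber.map h y) := fun x V W h y => by
      ext m
      have h1 := ConcreteCategory.congr_hom (p.toPresheafFiber_w h.left y.1 E.presheaf)
        (DirectSum.of (extComp G' (op W.left)) W.hom m)
      refine Eq.trans ?_ h1
      show p.toPresheafFiber V.left y.1 E.presheaf (DirectSum.of (extComp G' (op V.left)) V.hom (G'.presheaf.map h.op m)) =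
        p.toPresheafFiber V.left y.1 E.presheaf (extMap G' h.left.op (DirectSum.of (extComp G' (op W.left)) W.hom m))
      rw [extMap_of]
      exact congrArg _ (of_map_congr G' (Over.w h).symm h _ rfl m)
  let bwd₁ : ∀ x, S x ⟶ (p.presheafFiber (A := AddCommGrpCat.{u})).obj E.presheaf := fun x =>
    (p.over x).presheafFiberDesc (bwd₀ x) (fun V W h y => hbwd x V W h y)
  let B : ∐ S ⟶ (p.presheafFiber (A := AddCommGrpCat.{u})).obj E.presheaf := Sigma.desc bwd₁
  have hFB : F ≫ B = 𝟙 _ := by
    apply p.presheafFiber_hom_ext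
    intro X y
    refine (Category.assoc _ _ _).symm.trans ((congrArg (· ≫ B) (p.toPresheafFiber_presheafFiberDesc fwd₁ (fun _ _ h y => hfwd h y) X y)).trans ?_)
    rw [Category.comp_id]
    apply AddCommGrpCat.hom_ext
    apply DirectSum.addHom_ext
    intro a m
    show B (DirectSum.toAddMonoid (fun b : X ⟶ U => (fwd₀ X y b).hom) (DirectSum.of (extComp G' (op X)) a m)) = _
    erw [DirectSum.toAddMonoid_of]
    refine (ConcreteCategory.congr_hom (Sigma.ι_desc (f := S) bwd₁ (p.fiber.map a y)) _).trans ?_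
    exact ConcreteCategory.congr_hom ((p.over (p.fiber.map a y)).toPresheafFiber_presheafFiberDesc (bwd₀ (p.fiber.map a y)) (fun V W h z => hbwd (p.fiber.map a y) V W h z) (Over.mk a) ⟨y, rfl⟩) m
  have hBF : B ≫ F = 𝟙 _ := by
    apply Sigma.hom_ext
    intro x
    rw [Sigma.ι_desc_assoc, Category.comp_id]
    apply (p.over x).presheafFiber_hom_ext
    intro V y
    refine (Category.assoc _ _ _).symm.trans ((congrArg (· ≫ F) ((p.over x).toPresheafFiber_presheafFiberDesc (bwd₀ x) (fun V W h z => hbwd x V W h z) V y)).trans ?_)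
    refine (Category.assoc _ _ _).trans ((congrArg (_ ≫ ·) (p.toPresheafFiber_presheafFiberDesc fwd₁ (fun _ _ h y => hfwd h y) V.left y.1)).trans ?_)
    ext m
    show DirectSum.toAddMonoid (fun a : V.left ⟶ U => (fwd₀ V.left y.1 a).hom) (DirectSum.of (extComp G' (op V.left)) V.hom m) = _
    erw [DirectSum.toAddMonoid_of]
    exact ConcreteCategory.congr_hom (hg (p.fiber.map V.hom y.1) x V ⟨y.1, rfl⟩ y y.2 rfl) m
  let η := (PresheafOfModules.toPresheaf _).map ((shAdj O).unit.app E)
  haveI : IsIso ((p.presheafFiber (A := AddCommGrpCat.{u})).map η) :=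
    (ConcreteCategory.isIso_iff_bijective _).2 (p.toPresheafFiber_map_bijective η)
  exact ⟨(p.sheafFiber (A := AddCommGrpCat.{u})).mapIso ((SheafOfModules.toSheaf (ModSite.ringSh O)).mapIso ((extZeroIso O U).app G)) ≪≫
    (asIso ((p.presheafFiber (A := AddCommGrpCat.{u})).map η)).symm ≪≫ ⟨F, B, hFB, hBF⟩⟩

end Groth.Agent.SiteBase
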