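import Groth.Agent.SiteBase.ModTensor
import Mathlib.Algebra.DirectSum.Module
import Mathlib.Algebra.Category.ModuleCat.Presheaf.Pushforward
import Mathlib.Algebra.Category.ModuleCat.Presheaf.PushforwardZeroMonoidal
import Mathlib.LinearAlgebra.DirectSum.TensorProduct

/-! # Extension by zero of presheaves of modules from a localised site `C/U` -/

universe u

open CategoryTheory MonoidalCategory Limits Opposite

namespace Groth.Agent.SiteBase

variable {C : Type u} [SmallCategory C] {J : GrothendieckTopology C} (O : Sheaf J CommRingCat.{u})
  (U : C)

/-- Restriction of presheaves of modules to `C/U`. -/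
noncomputable abbrev restrP : PMod O ⥤ PMod (O.over U) :=
  PresheafOfModules.pushforward₀OfCommRingCat (Over.forget U) O.obj

noncomputable instance moduleOver (G : PMod (O.over U)) (V : (Over U)ᵒᵖ) :
    Module (O.obj.obj (op V.unop.left)) (G.obj V) :=
  (G.obj V).isModule

variable {O U}

/-- the components of extension by zero -/
abbrev extComp (G : PMod (O.over U)) (X : Cᵒᵖ) (a : X.unop ⟶ U) : Type u :=
  G.obj (op (Over.mk a))

noncomputable instance moduleExtComp (G : PMod (O.over U)) (X : Cᵒᵖ) (a : X.unop ⟶ U) :
    Module (O.obj.obj X) (extComp G X a) :=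
  moduleOver O U G (op (Over.mk a))

open scoped Classical in
/-- the transition map on one component -/
noncomputable def extMapComp (G : PMod (O.over U)) {X Y : Cᵒᵖ} (g : X ⟶ Y) (a : X.unop ⟶ U) :
    extComp G X a →+ DirectSum (Y.unop ⟶ U) (extComp G Y) :=
  (DirectSum.of (extComp G Y) (g.unop ≫ a)).comp
    ((G.map (Over.homMk g.unop : Over.mk (g.unop ≫ a) ⟶ Over.mk a).op).hom.toAddMonoidHom)

open scoped Classical in
/-- the transition map -/
noncomputable def extMap (G : PMod (O.over U)) {X Y : Cᵒᵖ} (g : X ⟶ Y) :
    DirectSum (X.unop ⟶ U) (extComp G X) →+ DirectSum (Y.unop ⟶ U) (extComp G Y) :=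
  DirectSum.toAddMonoid (extMapComp G g)

open scoped Classical in
lemma extMap_of (G : PMod (O.over U)) {X Y : Cᵒᵖ} (g : X ⟶ Y) (a : X.unop ⟶ U) (m : extComp G X a) :
    extMap G g (DirectSum.of (extComp G X) a m) = DirectSum.of (extComp G Y) (g.unop ≫ a)
      (G.map (Over.homMk g.unop : Over.mk (g.unop ≫ a) ⟶ Over.mk a).op m) := by
  simp [extMap, extMapComp]
  rfl

open scoped Classical in
lemma extMap_smul (G : PMod (O.over U)) {X Y : Cᵒᵖ} (g : X ⟶ Y) (r : O.obj.obj X)
    (x : DirectSum (X.unop ⟶ U) (extComp G X)) :
    extMap G g (r • x) = (O.obj.map g) r • extMap G g x := by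
  induction x using DirectSum.induction_on with
  | zero => simp
  | add x y hx hy => simp [smul_add, hx, hy]
  | of a m =>
    have h1 : r • DirectSum.of (extComp G X) a m = DirectSum.of (extComp G X) a (r • m) :=
      (map_smul (DirectSum.lof (O.obj.obj X) _ (extComp G X) a) r m).symm
    have h2 := (map_smul (DirectSum.lof (O.obj.obj Y) _ (extComp G Y) (g.unop ≫ a)) ((O.obj.map g) r)
      (show extComp G Y (g.unop ≫ a) from G.map (Over.homMk g.unop : Over.mk (g.unop ≫ a) ⟶ Over.mk a).op m))
    rw [h1, extMap_of, extMap_of]
    refine Eq.trans ?_ h2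
    refine congrArg (DirectSum.of (extComp G Y) (g.unop ≫ a)) ?_
    exact PresheafOfModules.map_smul G (Over.homMk g.unop : Over.mk (g.unop ≫ a) ⟶ Over.mk a).op r m

open scoped Classical in
lemma of_map_congr (G : PMod (O.over U)) {Y : Cᵒᵖ} {V : Over U} {a b : Y.unop ⟶ U}
    (h : a = b) (p : Over.mk a ⟶ V) (q : Over.mk b ⟶ V) (hpq : p.left = q.left) (m : G.obj (op V)) :
    DirectSum.of (extComp G Y) a (G.map p.op m) = DirectSum.of (extComp G Y) b (G.map q.op m) := by
  subst h
  obtain rfl : p = q := Over.OverMorphism.ext hpq
  rfl

variable (O U) in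
open scoped Classical in
/-- `extP G` on objects. -/
noncomputable def extPObj (G : PMod (O.over U)) : PMod O where
  obj X := ModuleCat.of (O.obj.obj X) (DirectSum (X.unop ⟶ U) (extComp G X))
  map {X Y} g := ModuleCat.ofHom
    (Y := (ModuleCat.restrictScalars (O.obj.map g).hom).obj
      (ModuleCat.of (O.obj.obj Y) (DirectSum (Y.unop ⟶ U) (extComp G Y))))
    { toFun := extMap G g
      map_add' := map_add _
      map_smul' := extMap_smul G g }
  map_id X := by
    refine ModuleCat.hom_ext (LinearMap.ext fun x => ?_)
    show extMap G (𝟙 X) x = x
    induction x using DirectSum.induction_on with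
    | zero => simp
    | add x y hx hy => simp [hx, hy]
    | of a m =>
      rw [extMap_of]
      refine (of_map_congr G (Category.id_comp a) _ (𝟙 (Over.mk a)) rfl m).trans ?_
      congr 1
      rw [op_id, G.map_id]
      rfl
  map_comp {X Y Z} f g := by
    refine ModuleCat.hom_ext (LinearMap.ext fun x => ?_)
    show extMap G (f ≫ g) x = extMap G g (extMap G f x)
    induction x using DirectSum.induction_on with
    | zero => simp
    | add x y hx hy => simp [hx, hy]
    | of a m =>
      rw [extMap_of, extMap_of, extMap_of, ← PresheafOfModules.map_comp_apply, ← op_comp]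
      exact of_map_congr G (by simp) _ _ (by simp) m

variable (O U) in
open scoped Classical in
/-- Extension by zero of presheaves of modules. -/
noncomputable def extP : PMod (O.over U) ⥤ PMod O where
  obj := extPObj O U
  map {G G'} φ :=
    { app := fun X => ModuleCat.ofHom (DirectSum.lmap
        (fun a : X.unop ⟶ U => ((φ.app (op (Over.mk a))).hom :
          extComp G X a →ₗ[O.obj.obj X] extComp G' X a)))
      naturality := fun {X Y} g => by
        ext x
        show DirectSum.lmap _ (extMap G g x) = extMap G' g (DirectSum.lmap _ x)
        induction x using DirectSum.induction_on with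
        | zero => simp
        | add x y hx hy => simp [hx, hy]
        | of a m =>
          erw [extMap_of, DirectSum.lmap_of, DirectSum.lmap_of, extMap_of]
          congr 1
          exact PresheafOfModules.naturality_apply φ _ m }
  map_id G := by
    refine PresheafOfModules.hom_ext fun X => ModuleCat.hom_ext (LinearMap.ext fun x => ?_)
    show DirectSum.lmap _ x = x
    induction x using DirectSum.induction_on with
    | zero => simp
    | add x y hx hy => exact (map_add _ _ _).trans (congrArg₂ (· + ·) hx hy)
    | of a m => exact DirectSum.lmap_of _ _ _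
  map_comp {G G' G''} φ ψ := by
    refine PresheafOfModules.hom_ext fun X => ModuleCat.hom_ext (LinearMap.ext fun x => ?_)
    show DirectSum.lmap _ x = DirectSum.lmap _ (DirectSum.lmap _ x)
    induction x using DirectSum.induction_on with
    | zero => simp
    | add x y hx hy =>
      refine (map_add _ _ _).trans ((congrArg₂ (· + ·) hx hy).trans ?_)
      rw [map_add, map_add]
    | of a m =>
      refine (DirectSum.lmap_of _ _ _).trans (Eq.symm ?_)
      exact (congrArg _ (DirectSum.lmap_of _ _ _)).trans (DirectSum.lmap_of _ _ _)

open scoped Classical in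
/-- The inclusion of a component. -/
noncomputable def extIn (G : PMod (O.over U)) (V : (Over U)ᵒᵖ) :
    G.obj V →ₗ[O.obj.obj (op V.unop.left)] ((extP O U).obj G).obj (op V.unop.left) :=
  DirectSum.lof (O.obj.obj (op V.unop.left)) (V.unop.left ⟶ U) (extComp G (op V.unop.left)) V.unop.hom

open scoped Classical in
/-- The hom bijection for `extP ⊣ restrP`. -/
noncomputable def extPHomEquiv (G : PMod (O.over U)) (M : PMod O) :
    ((extP O U).obj G ⟶ M) ≃ (G ⟶ (restrP O U).obj M) where
  toFun h :=
    { app := fun V => ModuleCat.ofHom (X := G.obj V) (Y := ((restrP O U).obj M).obj V)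
        { toFun := fun m => (h.app (op V.unop.left)).hom (extIn G V m)
          map_add' := fun m m' => (congrArg (h.app (op V.unop.left)).hom (map_add (extIn G V) m m')).trans
            (map_add (h.app (op V.unop.left)).hom _ _)
          map_smul' := fun (r : O.obj.obj (op V.unop.left)) m =>
            (congrArg (h.app (op V.unop.left)).hom (map_smul (extIn G V) r m)).trans
              (map_smul (h.app (op V.unop.left)).hom r _) }
      naturality := fun {V W} g => by
        ext m
        show (h.app (op W.unop.left)).hom (extIn G W (G.map g m)) =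
          M.map g.unop.left.op ((h.app (op V.unop.left)).hom (extIn G V m))
        refine Eq.trans ?_ (PresheafOfModules.naturality_apply h g.unop.left.op (extIn G V m))
        congr 1
        show DirectSum.of (extComp G (op W.unop.left)) W.unop.hom (G.map g m) =
          extMap G g.unop.left.op (DirectSum.of (extComp G (op V.unop.left)) V.unop.hom m)
        rw [extMap_of]
        exact of_map_congr G (Over.w g.unop).symm g.unop _ rfl m }
  invFun k :=
    { app := fun X => ModuleCat.ofHom (DirectSum.toModule (O.obj.obj X) (X.unop ⟶ U) (M.obj X)
        (fun a => ((k.app (op (Over.mk a))).hom : extComp G X a →ₗ[O.obj.obj X] M.obj X)))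
      naturality := fun {X Y} g => by
        ext x
        show DirectSum.toModule _ _ _ _ (extMap G g x) = M.map g (DirectSum.toModule _ _ _ _ x)
        induction x using DirectSum.induction_on with
        | zero => simp
        | add x y hx hy =>
          rw [map_add, map_add, map_add, hx, hy]
          exact (map_add (M.map g).hom _ _).symm
        | of a m =>
          rw [extMap_of]
          erw [DirectSum.toModule_lof, DirectSum.toModule_lof]
          exact PresheafOfModules.naturality_apply k
            (Over.homMk g.unop : Over.mk (g.unop ≫ a) ⟶ Over.mk a).op m }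
  left_inv h := by
    refine PresheafOfModules.hom_ext fun X => ModuleCat.hom_ext (LinearMap.ext fun x => ?_)
    show DirectSum.toModule _ _ _ _ x = (h.app X).hom x
    induction x using DirectSum.induction_on with
    | zero => exact (map_zero _).trans (map_zero (h.app X).hom).symm
    | add x y hx hy => exact (map_add _ _ _).trans ((congrArg₂ (· + ·) hx hy).trans (map_add (h.app X).hom _ _).symm)
    | of a m => erw [DirectSum.toModule_lof]; rfl
  right_inv k := by
    refine PresheafOfModules.hom_ext fun V => ModuleCat.hom_ext (LinearMap.ext fun m => ?_)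
    exact DirectSum.toModule_lof (O.obj.obj (op V.unop.left)) (N := M.obj (op V.unop.left))
      (φ := fun a => ((k.app (op (Over.mk a))).hom :
        extComp G (op V.unop.left) a →ₗ[O.obj.obj (op V.unop.left)] M.obj (op V.unop.left))) V.unop.hom m

variable (O U) in
/-- `extP ⊣ restrP`. -/
noncomputable def extPAdj : extP O U ⊣ restrP O U :=
  Adjunction.mkOfHomEquiv
    { homEquiv := extPHomEquiv
      homEquiv_naturality_left_symm := fun {G G' M} φ k => by
        classical
        refine PresheafOfModules.hom_ext fun X => ModuleCat.hom_ext (LinearMap.ext fun x => ?_)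
        show DirectSum.toModule _ _ _ _ x = DirectSum.toModule _ _ _ _ (DirectSum.lmap _ x)
        induction x using DirectSum.induction_on with
        | zero => simp
        | add x y hx hy =>
          refine (map_add _ _ _).trans ((congrArg₂ (· + ·) hx hy).trans ?_)
          rw [map_add, map_add]
        | of a m => erw [DirectSum.lmap_of, DirectSum.toModule_lof, DirectSum.toModule_lof]; rfl
      homEquiv_naturality_right := fun _ _ => rfl }

end Groth.Agent.SiteBase
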